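import Cfsg.Agent.Blocks.Idempotent
import Cfsg.Agent.Char.Perm
import Cfsg.Agent.Char.Linear
import Cfsg.Agent.CharArith.Basic
import Mathlib.GroupTheory.NoncommCoprod

/-!
# No character of degree five

A character of degree five of a simple group taking the value one on `t * y` for all involutions `t`
of a four-group and all `y` in a real cyclic subgroup of odd order centralizing it cannot exist.
-/

set_option autoImplicit false

namespace Cfsg.Agent.SmallCent

open Cfsg.Agent Subgroup
open scoped ComplexConjugate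

universe u

variable {G : Type u} [Group G] [Finite G]

/-- A nontrivial irreducible character of a simple group is faithful. -/
theorem eq_one_of_apply_eq_one [IsSimpleGroup G] {χ : G → ℂ} (hχ : Cfsg.IsIrrCharacter G χ)
    (hne : χ ≠ fun _ => 1) {x : G} (hx : χ x = χ 1) : x = 1 := by
  classical
  have := Fintype.ofFinite G
  have hχ' := hχ
  obtain ⟨m, ρ, -, rfl⟩ := hχ'
  let f : G →* Module.End ℂ (Fin m → ℂ) := ρ
  have hmem : x ∈ f.ker := by
    show ρ x = 1
    refine (Char.character_eq_finrank_iff ρ x).1 ?_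
    rw [hx, ρ.char_one]
  rcases IsSimpleGroup.eq_bot_or_eq_top_of_normal f.ker inferInstance with h | h
  · rwa [h, mem_bot] at hmem
  exfalso
  have hconst : ∀ g, ρ.character g = ρ.character 1 := by
    intro g
    have hg : f g = 1 := (h ▸ Subgroup.mem_top g : g ∈ f.ker)
    show LinearMap.trace ℂ _ (ρ g) = LinearMap.trace ℂ _ (ρ 1)
    rw [show ρ g = 1 from hg, show ρ 1 = 1 from map_one ρ]
  have h1 := Char.classInner_irr hχ (Char.isIrrCharacter_one (G := G))
  rw [if_neg hne, Cfsg.classInner] at h1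
  simp only [map_one, mul_one, hconst, Finset.sum_const, Finset.card_univ, nsmul_eq_mul,
    ← Nat.card_eq_fintype_card] at h1
  rw [← mul_assoc, inv_mul_cancel₀ (Nat.cast_ne_zero.2 Nat.card_pos.ne'), one_mul] at h1
  exact Char.IsIrr.one_ne_zero hχ h1

theorem false_of_five [IsSimpleGroup G] {χ : G → ℂ} (hχ : Cfsg.IsIrrCharacter G χ) (h5 : χ 1 = 5)
    {V : Type*} [Group V] [Fintype V] (hV : Nat.card V = 4) (φ : V →* G) {x g : G} (hx1 : x ≠ 1)
    (hxo : Odd (orderOf x)) (hg : g * x * g⁻¹ = x⁻¹) (hcomm : ∀ v, φ v * x = x * φ v)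
    (hval : ∀ v, v ≠ 1 → ∀ i : ℤ, χ (φ v * x ^ i) = 1) : False := by
  classical
  have := Fintype.ofFinite G
  let X := zpowers x
  have := Fintype.ofFinite X
  let ψ : X → ℂ := fun y => χ (y : G)
  have hψ : Cfsg.IsCharacter X ψ := Char.isCharacter_comp X.subtype (Char.IsIrr.isCharacter hχ)
  have hinvψ : ∀ y : X, ψ y⁻¹ = ψ y := by
    rintro ⟨y, hy⟩
    obtain ⟨i, rfl⟩ := mem_zpowers_iff.1 hy
    show χ (x ^ i)⁻¹ = χ (x ^ i)
    rw [← inv_zpow, ← hg, conj_zpow, Char.isClassFunction_of_isIrr hχ]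
  have hlam : ∀ l : Cfsg.IrrCharacter X, (l : X → ℂ) 1 = 1 := fun l =>
    Char.IsIrr.degree_one_of_comm l.2 (fun a b => mul_comm' a b)
  choose F hF using fun l : Cfsg.IrrCharacter X =>
    Char.classInner_isCharacter_eq_natCast hψ (Char.IsIrr.isCharacter l.2)
  have hmod : ∀ l : Cfsg.IrrCharacter X,
      ∃ q : ℕ, 4 * q = F l + 3 * (if l = Blocks.triv X then 1 else 0) := by
    intro l
    let Φ : V × X →* G := φ.noncommCoprod X.subtype (fun v y => by
      obtain ⟨i, hi⟩ := mem_zpowers_iff.1 y.2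
      show Commute (φ v) (y : G)
      rw [← hi]
      exact (show Commute (φ v) x from hcomm v).zpow_right i)
    obtain ⟨q, hq⟩ := Char.classInner_isCharacter_eq_natCast
      (Char.isCharacter_comp Φ (Char.IsIrr.isCharacter hχ))
      (Char.isCharacter_comp (MonoidHom.snd V X) (Char.IsIrr.isCharacter l.2))
    refine ⟨q, ?_⟩
    rw [Cfsg.classInner, Fintype.sum_prod_type, ← Finset.add_sum_erase _ _ (Finset.mem_univ (1 : V))]
      at hq
    have hone : ∀ v ∈ (Finset.univ : Finset V).erase 1,
        (∑ y : X, χ (Φ (v, y)) * conj ((l : X → ℂ) (MonoidHom.snd V X (v, y)))) =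
          ∑ y : X, conj ((l : X → ℂ) y) := by
      intro v hv
      refine Finset.sum_congr rfl fun y _ => ?_
      obtain ⟨i, hi⟩ := mem_zpowers_iff.1 y.2
      show χ (φ v * (y : G)) * _ = _
      rw [← hi, hval v (Finset.ne_of_mem_erase hv), one_mul]
      rfl
    rw [Finset.sum_congr rfl hone, Finset.sum_const, Finset.card_erase_of_mem (Finset.mem_univ _),
      Finset.card_univ, ← Nat.card_eq_fintype_card, hV] at hq
    have hfirst : ∀ y : X, χ (Φ ((1 : V), y)) * conj ((l : X → ℂ) (MonoidHom.snd V X ((1 : V), y))) =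
        ψ y * conj ((l : X → ℂ) y) := fun y => by
      show χ (φ 1 * (y : G)) * _ = _
      rw [map_one, one_mul]
      rfl
    rw [Finset.sum_congr rfl fun y _ => hfirst y] at hq
    have h1 := Char.classInner_irrChar (Blocks.triv X) l
    rw [Cfsg.classInner] at h1
    simp only [show ∀ y : X, (Blocks.triv X : X → ℂ) y = 1 from fun _ => rfl, one_mul] at h1
    have h2 := hF l
    rw [Cfsg.classInner] at h2
    have hc : (Nat.card X : ℂ) ≠ 0 := Nat.cast_ne_zero.2 Nat.card_pos.ne'
    rw [inv_mul_eq_iff_eq_mul₀ hc] at h1 h2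
    rw [h1, h2, Nat.card_prod, hV] at hq
    apply Nat.cast_injective (R := ℂ)
    push_cast at hq ⊢
    simp only [eq_comm (a := Blocks.triv X)] at hq
    refine mul_left_cancel₀ hc ?_
    split_ifs at hq ⊢ <;> field_simp at hq <;> simp only [nsmul_eq_mul] at hq <;> push_cast at hq ⊢ <;>
      linear_combination -hq
  have hsum : ∑ l, F l = 5 := by
    have h1 := congrFun (Char.classFun_expansion
      (Char.isClassFunction_of_isCharacter hψ)) 1
    simp only [Finset.sum_apply, Pi.smul_apply, smul_eq_mul, hF, hlam, mul_one] at h1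
    rw [show ψ 1 = 5 from h5] at h1
    exact_mod_cast h1.symm
  have hconj : ∀ l, F (Char.conjIrr l) = F l := by
    intro l
    apply Nat.cast_injective (R := ℂ)
    rw [← hF, ← hF, Cfsg.classInner, Cfsg.classInner]
    congr 1
    refine Fintype.sum_equiv (Equiv.inv X) _ _ fun y => ?_
    show ψ y * conj (conj ((l : X → ℂ) y)) = ψ y⁻¹ * conj ((l : X → ℂ) y⁻¹)
    rw [hinvψ, Char.IsChar.inv_eq_conj (Char.IsIrr.isCharacter l.2)]
  have hreal : ∀ l, Char.conjIrr l = l → l = Blocks.triv X := by
    intro l hl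
    refine Subtype.ext (funext fun y => ?_)
    show (l : X → ℂ) y = 1
    let f : X →* ℂ :=
      { toFun := (l : X → ℂ), map_one' := hlam l,
        map_mul' := CharArith.linear_mul (Char.IsIrr.isCharacter l.2) (hlam l) }
    have h1 : (l : X → ℂ) y⁻¹ = (l : X → ℂ) y := by
      rw [Char.IsChar.inv_eq_conj (Char.IsIrr.isCharacter l.2)]
      exact congrFun (congrArg Subtype.val hl) y
    have h2 : f y ^ 2 = 1 := by
      rw [pow_two]
      show (l : X → ℂ) y * (l : X → ℂ) y = 1
      nth_rewrite 2 [← h1]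
      show f y * f y⁻¹ = 1
      rw [← map_mul, mul_inv_cancel, map_one]
    obtain ⟨t, ht⟩ := hxo
    obtain ⟨i, hi⟩ := mem_zpowers_iff.1 y.2
    have h3 : y ^ orderOf x = 1 := Subtype.ext (by
      rw [SubmonoidClass.coe_pow, ← hi, ← zpow_natCast (x ^ i), ← zpow_mul, mul_comm, zpow_mul,
        zpow_natCast, pow_orderOf_eq_one, one_zpow]
      rfl)
    have h4 : f y ^ orderOf x = 1 := by rw [← map_pow, h3, map_one]
    rw [ht, pow_succ, pow_mul, h2, one_pow, one_mul] at h4
    exact h4
  have hzero : ∀ l, l ≠ Blocks.triv X → F l = 0 := by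
    intro l hl
    by_contra h0
    obtain ⟨q, hq⟩ := hmod l
    rw [if_neg hl] at hq
    have hne : Char.conjIrr l ≠ l := fun e => hl (hreal l e)
    have h2 := Finset.sum_le_univ_sum_of_nonneg (f := F) (fun _ => Nat.zero_le _)
      (s := {Char.conjIrr l, l})
    rw [Finset.sum_pair hne, hconj, hsum] at h2
    omega
  have hψx : χ x = χ 1 := by
    have h1 : ∀ y : X, ψ y = F (Blocks.triv X) := fun y => by
      have h2 := congrFun (Char.classFun_expansion
        (Char.isClassFunction_of_isCharacter hψ)) y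
      simp only [Finset.sum_apply, Pi.smul_apply, smul_eq_mul, hF] at h2
      rw [h2, Finset.sum_eq_single (Blocks.triv X) (fun l _ hl => by
        rw [hzero l hl, Nat.cast_zero, zero_mul]) (by simp)]
      exact mul_one _
    exact (h1 ⟨x, mem_zpowers x⟩).trans (h1 1).symm
  refine hx1 (eq_one_of_apply_eq_one hχ (fun e => ?_) hψx)
  rw [e] at h5
  norm_num at h5

end Cfsg.Agent.SmallCent
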