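import Cfsg.Agent.BlockThms.Dihedral.Order

/-!
# The involution centralizer when an element of order four is self centralizing

The Sylow 2-subgroup is dihedral of order eight and the odd core `oker ι` of the centralizer of the
central involution is inverted by the rotation of order four.
-/

set_option autoImplicit false

namespace Cfsg.Agent.SmallCent

open DihedralGroup Cfsg.Agent.Invol Cfsg.Agent.BlockThms.Dihedral Subgroup

universe u

variable {G : Type u} [Group G]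

/-- A dihedral Sylow subgroup of order eight with self-centralizing rotations and one class of
involutions. -/
structure Cfg (S : Sylow 2 G) (ι : DihedralGroup (2 ^ 2) →* G) : Prop where
  data : DData S 2 ι
  selfcent : Nat.card (centralizer ({ι (r 1)} : Set G)) = 4
  fused : ∀ x y : G, orderOf x = 2 → orderOf y = 2 → IsConj x y

/-- The elements of odd order centralizing the central involution. -/
def oker (ι : DihedralGroup (2 ^ 2) →* G) : Subgroup G :=
  Subgroup.closure {x | x * ι (r (dh 2)) = ι (r (dh 2)) * x ∧ Odd (orderOf x)}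

/-- The part of `oker` fixed by the reflection `sr a`. -/
def fixpt (ι : DihedralGroup (2 ^ 2) →* G) (a : ZMod (2 ^ 2)) : Subgroup G :=
  oker ι ⊓ centralizer ({ι (sr a)} : Set G)

theorem mem_fixpt {ι : DihedralGroup (2 ^ 2) →* G} {a : ZMod (2 ^ 2)} {x : G} :
    x ∈ fixpt ι a ↔ x ∈ oker ι ∧ x * ι (sr a) = ι (sr a) * x := by
  rw [fixpt, mem_inf, mem_centralizer_singleton_iff]

theorem eq_one_of_odd_sq {x : G} (ho : Odd (orderOf x)) (h : x * x = 1) : x = 1 := by
  have hd := orderOf_dvd_of_pow_eq_one (show x ^ 2 = 1 by rw [pow_two, h])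
  rcases (Nat.dvd_prime Nat.prime_two).1 hd with e | e
  · exact orderOf_eq_one_iff.1 e
  · rw [e] at ho; exact absurd ho (by decide)

theorem exists_sq_of_odd {x : G} (ho : Odd (orderOf x)) : ∃ m : ℕ, x ^ m * x ^ m = x := by
  obtain ⟨t, ht⟩ := ho
  refine ⟨t + 1, ?_⟩
  rw [← pow_add, show t + 1 + (t + 1) = orderOf x + 1 by omega, pow_succ, pow_orderOf_eq_one,
    one_mul]

namespace Cfg

variable [Finite G] {S : Sylow 2 G} {ι : DihedralGroup (2 ^ 2) →* G} (c : Cfg S ι)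
include c

theorem mem_centralizer_rot {x : G} (hx : x * ι (r 1) = ι (r 1) * x) : ∃ i, x = ι (r i) := by
  let R : Subgroup G := (rotSub 2).map ι
  have hle : R ≤ centralizer ({ι (r 1)} : Set G) := by
    rintro _ ⟨_, ⟨i, rfl⟩, rfl⟩
    refine mem_centralizer_singleton_iff.2 ?_
    rw [← map_mul, ← map_mul, r_mul_r, r_mul_r, add_comm]
  have hR : Nat.card R = 4 := by
    rw [card_map_of_injective c.data.inj,
      Nat.card_congr (show rotSub 2 ≃ ZMod (2 ^ 2) from
        { toFun := fun d => rotIdx d.1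
          invFun := fun i => ⟨r i, i, rfl⟩
          left_inv := fun ⟨_, i, rfl⟩ => rfl
          right_inv := fun _ => rfl }), Nat.card_zmod]
    norm_num
  have he := eq_of_le_of_card_ge hle (by rw [hR, c.selfcent])
  have hx' : x ∈ R := he ▸ mem_centralizer_singleton_iff.2 hx
  obtain ⟨_, ⟨i, rfl⟩, rfl⟩ := hx'
  exact ⟨i, rfl⟩

theorem odd_commute_rot {x : G} (ho : Odd (orderOf x)) (hx : x * ι (r 1) = ι (r 1) * x) :
    x = 1 := by
  obtain ⟨i, rfl⟩ := c.mem_centralizer_rot hx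
  rw [orderOf_injective ι c.data.inj] at ho
  have key : ∀ i : ZMod (2 ^ 2), (r i : DihedralGroup (2 ^ 2)) ^ 4 = 1 := by decide
  have hd := orderOf_dvd_of_pow_eq_one (key i)
  have h1 : orderOf (r i : DihedralGroup (2 ^ 2)) = 1 := Nat.Coprime.eq_one_of_dvd
    ((Nat.coprime_two_right.2 ho).pow_right 2) hd
  rw [orderOf_eq_one_iff.1 h1, map_one]

variable {π : cJ ι →* DihedralGroup (2 ^ 2)} (h : Proj ι π)
include h

theorem mem_oker {x : G} : x ∈ oker ι ↔ ∃ hx : x ∈ cJ ι, π ⟨x, hx⟩ = 1 := by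
  refine ⟨fun hx => ?_, fun ⟨hx, hπ⟩ => subset_closure
    ⟨mem_centralizer_singleton_iff.1 hx, by simpa using h.odd _ hπ⟩⟩
  have hle : oker ι ≤ π.ker.map (cJ ι).subtype := by
    rw [oker, closure_le]
    rintro y ⟨hy, ho⟩
    exact ⟨⟨y, mem_centralizer_singleton_iff.2 hy⟩, Proj.proj_eq_one_of_odd
      (fun h2 => Nat.not_even_iff_odd.2 ho (even_iff_two_dvd.2 h2)), rfl⟩
  obtain ⟨y, hy, rfl⟩ := hle hx
  exact ⟨y.2, hy⟩

omit c h in
theorem proj_mul {x y : G} (hx : x ∈ cJ ι) (hy : y ∈ cJ ι) :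
    π ⟨x * y, mul_mem hx hy⟩ = π ⟨x, hx⟩ * π ⟨y, hy⟩ :=
  map_mul π ⟨x, hx⟩ ⟨y, hy⟩

theorem exists_decomp {x : G} (hx : x ∈ cJ ι) :
    ∃ v ∈ oker ι, ∃ d, π ⟨x, hx⟩ = d ∧ x = v * ι d := by
  refine ⟨x * (ι (π ⟨x, hx⟩))⁻¹, ?_, _, rfl, by group⟩
  refine (c.mem_oker h).2 ⟨mul_mem hx (inv_mem (iota_mem c.data _)), ?_⟩
  have : (⟨x * (ι (π ⟨x, hx⟩))⁻¹, mul_mem hx (inv_mem (iota_mem c.data _))⟩ : cJ ι) =
      ⟨x, hx⟩ * (iotaC c.data (π ⟨x, hx⟩))⁻¹ := rfl
  rw [this, map_mul, map_inv, h.proj_iotaC c.data, mul_inv_cancel]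

theorem card_ker : Nat.card π.ker = Nat.card (oker ι) := by
  refine Nat.card_congr
    { toFun := fun x => ⟨(x.1 : G), (c.mem_oker h).2 ⟨x.1.2, x.2⟩⟩
      invFun := fun x => ⟨⟨x.1, ((c.mem_oker h).1 x.2).choose⟩, ((c.mem_oker h).1 x.2).choose_spec⟩
      left_inv := fun _ => rfl
      right_inv := fun _ => rfl }

end Cfg

namespace Cfg

variable [Finite G] {S : Sylow 2 G} {ι : DihedralGroup (2 ^ 2) →* G} (c : Cfg S ι)
include c

theorem oker_le : oker ι ≤ cJ ι := by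
  obtain ⟨π, h⟩ := exists_proj c.data
  exact fun x hx => ((c.mem_oker h).1 hx).1

theorem odd_of_mem {x : G} (hx : x ∈ oker ι) : Odd (orderOf x) := by
  obtain ⟨π, h⟩ := exists_proj c.data
  obtain ⟨hx', hπ⟩ := (c.mem_oker h).1 hx
  simpa using h.odd _ hπ

theorem mem_oker_of_odd {x : G} (hx : x ∈ cJ ι) (ho : Odd (orderOf x)) : x ∈ oker ι :=
  subset_closure ⟨mem_centralizer_singleton_iff.1 hx, ho⟩

theorem card_oker_odd : Odd (Nat.card (oker ι)) := by
  refine Nat.not_even_iff_odd.1 fun he => ?_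
  have := Fact.mk Nat.prime_two
  obtain ⟨x, hx⟩ := exists_prime_orderOf_dvd_card' (G := oker ι) 2 (even_iff_two_dvd.1 he)
  have h := c.odd_of_mem x.2
  rw [orderOf_coe, hx] at h
  exact absurd h (by decide)

theorem conj_mem {g x : G} (hg : g ∈ cJ ι) (hx : x ∈ oker ι) : g * x * g⁻¹ ∈ oker ι := by
  refine c.mem_oker_of_odd (mul_mem (mul_mem hg (c.oker_le hx)) (inv_mem hg)) ?_
  rw [← MulAut.conj_apply, MulEquiv.orderOf_eq]
  exact c.odd_of_mem hx

/-- The rotation of order four inverts the odd core, which is hence abelian. -/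
theorem invert_and_comm : (∀ x ∈ oker ι, ι (r 1) * x * (ι (r 1))⁻¹ = x⁻¹) ∧
    ∀ x ∈ oker ι, ∀ y ∈ oker ι, x * y = y * x := by
  set w := ι (r 1) with hw
  have hwJ : w ∈ cJ ι := iota_mem c.data _
  let φ : oker ι →* oker ι := MonoidHom.mk'
    (fun x => ⟨w * x * w⁻¹, c.conj_mem hwJ x.2⟩)
    (fun x y => Subtype.ext (show w * ((x : G) * y) * w⁻¹ = w * x * w⁻¹ * (w * y * w⁻¹) by group))
  have hinv : Function.Involutive φ := fun x => Subtype.ext (by
    show w * (w * (x : G) * w⁻¹) * w⁻¹ = x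
    have hz : w * w = ι (r (dh 2)) := by
      rw [hw, ← map_mul, r_mul_r]; rfl
    have hc := mem_centralizer_singleton_iff.1 (c.oker_le x.2)
    calc w * (w * (x : G) * w⁻¹) * w⁻¹ = (w * w) * x * (w * w)⁻¹ := by group
      _ = x := by rw [hz, ← hc, mul_inv_cancel_right])
  have hfix : MonoidHom.FixedPointFree φ := fun x hx => Subtype.ext
    (c.odd_commute_rot (c.odd_of_mem x.2)
      (mul_inv_eq_iff_eq_mul.1 (congrArg Subtype.val hx)).symm)
  refine ⟨fun x hx => ?_, fun x hx y hy => ?_⟩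
  · have := hfix.coe_eq_inv_of_involutive hinv
    exact congrArg Subtype.val (congrFun this ⟨x, hx⟩)
  · exact congrArg Subtype.val (hfix.commute_all_of_involutive hinv ⟨x, hx⟩ ⟨y, hy⟩)

theorem invert {x : G} (hx : x ∈ oker ι) : ι (r 1) * x * (ι (r 1))⁻¹ = x⁻¹ :=
  c.invert_and_comm.1 x hx

theorem comm {x y : G} (hx : x ∈ oker ι) (hy : y ∈ oker ι) : x * y = y * x :=
  c.invert_and_comm.2 x hx y hy

theorem rot_conj {x : G} (hx : x ∈ oker ι) (i : ZMod (2 ^ 2)) :
    ι (r i) * x * (ι (r i))⁻¹ = if i = 1 ∨ i = 3 then x⁻¹ else x := by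
  have h1 := c.invert hx
  have hz : ι (r 2) * x * (ι (r 2))⁻¹ = x := by
    rw [show (r 2 : DihedralGroup (2 ^ 2)) = r 1 * r 1 from rfl, map_mul]
    calc ι (r 1) * ι (r 1) * x * (ι (r 1) * ι (r 1))⁻¹
        = ι (r 1) * (ι (r 1) * x * (ι (r 1))⁻¹) * (ι (r 1))⁻¹ := by group
      _ = ι (r 1) * x⁻¹ * (ι (r 1))⁻¹ := by rw [h1]
      _ = (ι (r 1) * x * (ι (r 1))⁻¹)⁻¹ := by group
      _ = x := by rw [h1, inv_inv]
  have h3 : ι (r 3) * x * (ι (r 3))⁻¹ = x⁻¹ := by
    rw [show (r 3 : DihedralGroup (2 ^ 2)) = r 2 * r 1 from rfl, map_mul]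
    calc ι (r 2) * ι (r 1) * x * (ι (r 2) * ι (r 1))⁻¹
        = ι (r 2) * (ι (r 1) * x * (ι (r 1))⁻¹) * (ι (r 2))⁻¹ := by group
      _ = (ι (r 2) * x * (ι (r 2))⁻¹)⁻¹ := by rw [h1]; group
      _ = x⁻¹ := by rw [hz]
  obtain rfl | rfl | rfl | rfl : i = 0 ∨ i = 1 ∨ i = 2 ∨ i = 3 := by revert i; decide
  · rw [if_neg (by decide), ← one_def, map_one, one_mul, inv_one, mul_one]
  · rw [if_pos (by decide), h1]
  · rw [if_neg (by decide), hz]
  · rw [if_pos (by decide), h3]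

/-- A reflection differs from `sr a` by a rotation, so it centralizes or inverts the fixed points. -/
theorem sr_conj {x : G} {a : ZMod (2 ^ 2)} (hx : x ∈ fixpt ι a) (b : ZMod (2 ^ 2)) :
    ι (sr b) * x * (ι (sr b))⁻¹ = if b - a = 1 ∨ b - a = 3 then x⁻¹ else x := by
  obtain ⟨hK, hc⟩ := mem_fixpt.1 hx
  have h := c.rot_conj hK (b - a)
  have e : (sr b : DihedralGroup (2 ^ 2)) = sr a * r (b - a) := by
    rw [sr_mul_r, add_sub_cancel]
  rw [e, map_mul]
  calc ι (sr a) * ι (r (b - a)) * x * (ι (sr a) * ι (r (b - a)))⁻¹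
      = ι (sr a) * (ι (r (b - a)) * x * (ι (r (b - a)))⁻¹) * (ι (sr a))⁻¹ := by group
    _ = _ := by
      rw [h]
      split_ifs
      · rw [show ι (sr a) * x⁻¹ * (ι (sr a))⁻¹ = (ι (sr a) * x * (ι (sr a))⁻¹)⁻¹ by group,
          ← hc, mul_inv_cancel_right]
      · rw [← hc, mul_inv_cancel_right]

theorem card_cJ : Nat.card (cJ ι) = 8 * Nat.card (oker ι) := by
  obtain ⟨π, h⟩ := exists_proj c.data
  have hsurj : Function.Surjective π := fun d => ⟨iotaC c.data d, h.proj_iotaC c.data d⟩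
  rw [← π.ker.card_mul_index, c.card_ker h, index_ker, MonoidHom.range_eq_top.2 hsurj, card_top,
    DihedralGroup.nat_card, mul_comm]
  norm_num

theorem exists_group_order :
    ∃ n : ℕ, Odd n ∧ Nat.card G = 8 * Nat.card (oker ι) * n := by
  obtain ⟨n, hn⟩ := (cJ ι).card_subgroup_dvd_card
  rw [c.card_cJ] at hn
  refine ⟨n, Nat.not_even_iff_odd.1 fun he => ?_, hn⟩
  have := Fact.mk Nat.prime_two
  have h1 : 2 ^ 4 ∣ Nat.card G := by
    rw [hn]
    obtain ⟨m, rfl⟩ := he.two_dvd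
    exact ⟨Nat.card (oker ι) * m, by ring⟩
  obtain ⟨R, hR⟩ := Sylow.exists_subgroup_card_pow_prime 2 h1
  obtain ⟨Q, hQ⟩ := (IsPGroup.of_card hR).exists_le_sylow
  have h2 := card_le_of_le hQ
  rw [hR, Sylow.card_eq_multiplicity, ← S.card_eq_multiplicity, c.data.card_sylow] at h2
  norm_num at h2

/-- The odd core is the product of the two fixed point subgroups. -/
theorem card_oker (a : ZMod (2 ^ 2)) :
    Nat.card (oker ι) = Nat.card (fixpt ι a) * Nat.card (fixpt ι (a + 1)) := by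
  set t := ι (sr a) with ht
  set t' := ι (sr (a + 1)) with ht'
  have htt : t * t = 1 := by rw [ht, ← map_mul, sr_mul_self, map_one]
  have ht't : ι (r 1) = t * t' := by
    rw [ht, ht', ← map_mul, sr_mul_sr, add_sub_cancel_left]
  have htinv : t⁻¹ = t := inv_eq_of_mul_eq_one_right htt
  have htJ : t ∈ cJ ι := iota_mem c.data _
  have hfix' : ∀ x ∈ oker ι, t * x * t = x⁻¹ → x ∈ fixpt ι (a + 1) := by
    intro x hx he
    refine mem_fixpt.2 ⟨hx, ?_⟩
    have h1 := c.invert hx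
    rw [ht't] at h1
    have h2 : t * (t' * x * t'⁻¹) * t = t * x * t := by
      rw [he, ← h1, mul_inv_rev, htinv]; group
    have h3 := mul_left_cancel (mul_right_cancel h2)
    rw [← ht']
    exact (mul_inv_eq_iff_eq_mul.1 h3).symm
  let f : fixpt ι a × fixpt ι (a + 1) → oker ι := fun p =>
    ⟨(p.1 : G) * p.2, mul_mem (mem_fixpt.1 p.1.2).1 (mem_fixpt.1 p.2.2).1⟩
  rw [← Nat.card_prod]
  symm
  refine Nat.card_eq_of_bijective f ⟨fun p q hpq => ?_, fun x => ?_⟩
  · have he : (p.1 : G) * p.2 = q.1 * q.2 := congrArg Subtype.val hpq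
    set d := (q.1 : G)⁻¹ * p.1 with hd
    have hd1 : d ∈ fixpt ι a := mul_mem (inv_mem q.1.2) p.1.2
    have hd2 : d ∈ fixpt ι (a + 1) := by
      rw [show d = (q.2 : G) * (p.2 : G)⁻¹ by
        rw [hd, eq_mul_inv_iff_mul_eq, mul_assoc, he, inv_mul_cancel_left]]
      exact mul_mem q.2.2 (inv_mem p.2.2)
    have h1 : d * ι (r 1) = ι (r 1) * d := by
      rw [ht't, ← mul_assoc, (mem_fixpt.1 hd1).2, mul_assoc, (mem_fixpt.1 hd2).2, ← mul_assoc]
    have hd0 := c.odd_commute_rot (c.odd_of_mem (mem_fixpt.1 hd1).1) h1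
    have e1 : (q.1 : G) = p.1 := inv_mul_eq_one.1 hd0
    rw [← e1] at he
    exact Prod.ext (Subtype.ext e1.symm) (Subtype.ext (mul_left_cancel he))
  · obtain ⟨m, hm⟩ := exists_sq_of_odd (c.odd_of_mem x.2)
    set v := (x : G) ^ m
    have hv : v ∈ oker ι := pow_mem x.2 _
    obtain ⟨v', hv'def⟩ : ∃ v', v' = t * v * t := ⟨_, rfl⟩
    have hv' : v' ∈ oker ι := by
      have := c.conj_mem htJ hv
      rw [htinv] at this
      rwa [hv'def]
    have hvv : v * v' = v' * v := c.comm hv hv'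
    have hs : t * v' * t = v := by
      rw [hv'def]
      calc t * (t * v * t) * t = (t * t) * v * (t * t) := by group
        _ = v := by rw [htt, one_mul, mul_one]
    refine ⟨(⟨v * v', mem_fixpt.2 ⟨mul_mem hv hv', ?_⟩⟩,
      ⟨v * v'⁻¹, hfix' _ (mul_mem hv (inv_mem hv')) ?_⟩), Subtype.ext ?_⟩
    · show v * v' * t = t * (v * v')
      calc v * v' * t = (v' * v) * t := by rw [hvv]
        _ = t * (v * v') := by rw [hv'def]; simp only [mul_assoc]
    · calc t * (v * v'⁻¹) * t = (t * v * t) * (t * v'⁻¹ * t) := by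
            rw [show (t * v * t) * (t * v'⁻¹ * t) = t * v * (t * t) * v'⁻¹ * t by group, htt]; group
        _ = v' * (t * v' * t)⁻¹ := by
            rw [← hv'def, mul_inv_rev, mul_inv_rev, htinv, mul_assoc t v'⁻¹ t]
        _ = (v * v'⁻¹)⁻¹ := by rw [hs]; group
    · show v * v' * (v * v'⁻¹) = (x : G)
      rw [← hm, show v * v' * (v * v'⁻¹) = v * (v' * v) * v'⁻¹ by group, ← hvv]
      group

theorem mem_cJ_centralizer {π : cJ ι →* DihedralGroup (2 ^ 2)} (h : Proj ι π) {x : G}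
    {a : ZMod (2 ^ 2)} :
    x ∈ centralizer ({ι (r (dh 2)), ι (sr a)} : Set G) ↔
      ∃ hx : x ∈ cJ ι, x * ι (sr a) = ι (sr a) * x := by
  constructor
  · intro hx
    exact ⟨mem_centralizer_singleton_iff.2 (mem_centralizer_iff.1 hx _ (Or.inl rfl)).symm,
      (mem_centralizer_iff.1 hx _ (Or.inr rfl)).symm⟩
  · rintro ⟨hx, h2⟩
    refine mem_centralizer_iff.2 ?_
    rintro y (rfl | rfl)
    exacts [(mem_centralizer_singleton_iff.1 hx).symm, h2.symm]

theorem card_joint (a : ZMod (2 ^ 2)) :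
    Nat.card (centralizer ({ι (r (dh 2)), ι (sr a)} : Set G)) = 4 * Nat.card (fixpt ι a) := by
  obtain ⟨π, h⟩ := exists_proj c.data
  set C := centralizer ({ι (r (dh 2)), ι (sr a)} : Set G) with hC
  have hle : C ≤ cJ ι := fun x hx => ((c.mem_cJ_centralizer h).1 hx).1
  let f := π.comp (inclusion hle)
  have hrange : f.range = dfour c.data.pos a := by
    refine le_antisymm ?_ fun d hd => ?_
    · rintro _ ⟨⟨x, hx⟩, rfl⟩
      obtain ⟨hxJ, hc⟩ := (c.mem_cJ_centralizer h).1 hx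
      refine commute_sr c.data.pos ?_
      have hsr : π ⟨ι (sr a), iota_mem c.data _⟩ = sr a := h.sec _ _
      show π ⟨x, hxJ⟩ * sr a = sr a * π ⟨x, hxJ⟩
      rw [← hsr, ← map_mul, ← map_mul]
      exact congrArg π (Subtype.ext hc)
    · have hm : ι d ∈ C := (c.mem_cJ_centralizer h).2 ⟨iota_mem c.data _, by
        rw [← map_mul, ← map_mul]
        refine congrArg ι ?_
        have key : ∀ (a : ZMod (2 ^ 2)) (d : DihedralGroup (2 ^ 2)),
            d = r 0 ∨ d = r (dh 2) ∨ d = sr a ∨ d = sr (a + dh 2) → d * sr a = sr a * d := by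
          decide
        exact key a d ((mem_dfour_iff c.data.pos).1 hd)⟩
      exact ⟨⟨ι d, hm⟩, h.sec _ _⟩
  have hker : Nat.card f.ker = Nat.card (fixpt ι a) := by
    refine Nat.card_congr
      { toFun := fun x => ⟨(x.1 : G), mem_fixpt.2 ⟨(c.mem_oker h).2 ⟨hle x.1.2, x.2⟩,
          ((c.mem_cJ_centralizer h).1 x.1.2).2⟩⟩
        invFun := fun x => ⟨⟨x.1, (c.mem_cJ_centralizer h).2
          ⟨c.oker_le (mem_fixpt.1 x.2).1, (mem_fixpt.1 x.2).2⟩⟩,
          ((c.mem_oker h).1 (mem_fixpt.1 x.2).1).2⟩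
        left_inv := fun _ => rfl
        right_inv := fun _ => rfl }
  rw [← f.ker.card_mul_index, index_ker, hrange, dfour_card, hker, mul_comm]

theorem fixpt_add_two (a : ZMod (2 ^ 2)) : fixpt ι (a + 2) = fixpt ι a := by
  have key : ∀ a x, x ∈ fixpt ι a → x ∈ fixpt ι (a + 2) := fun a x hx => by
    have h1 := c.sr_conj hx (a + 2)
    rw [if_neg (by rw [add_sub_cancel_left]; decide)] at h1
    exact mem_fixpt.2 ⟨(mem_fixpt.1 hx).1, (mul_inv_eq_iff_eq_mul.1 h1).symm⟩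
  refine le_antisymm (fun x hx => ?_) (key a)
  have := key _ x hx
  rwa [add_assoc, show (2 : ZMod (2 ^ 2)) + 2 = 0 from rfl, add_zero] at this

/-- Relabelling exchanges the two fixed point subgroups. -/
theorem exists_swap : ∃ ι' : DihedralGroup (2 ^ 2) →* G, Cfg S ι' ∧ oker ι' = oker ι ∧
    ∀ a, fixpt ι' a = fixpt ι (a + 1) := by
  let e : DihedralGroup (2 ^ 2) →* DihedralGroup (2 ^ 2) := MonoidHom.mk'
    (fun d => match d with | r i => r i | sr i => sr (i + 1)) (by decide)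
  refine ⟨ι.comp e, ⟨⟨c.data.pos, c.data.inj.comp (by decide), ?_⟩, c.selfcent, c.fused⟩, rfl,
    fun a => rfl⟩
  rw [MonoidHom.range_comp, MonoidHom.range_eq_top.2 (by decide), ← MonoidHom.range_eq_map,
    c.data.range]

/-- Elements of order four are self centralizing. -/
theorem card_centralizer_four {x : G} (hx : x ∈ S) (h4 : orderOf x = 4) :
    Nat.card (centralizer ({x} : Set G)) = 4 := by
  obtain ⟨d, rfl⟩ := c.data.exists_eq hx
  rw [orderOf_injective ι c.data.inj] at h4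
  have key : ∀ d : DihedralGroup (2 ^ 2), d ^ 2 = 1 ∨ d = r 1 ∨ d = (r 1)⁻¹ := by decide
  rcases key d with h | h | h
  · have := Nat.le_of_dvd two_pos (orderOf_dvd_of_pow_eq_one h)
    omega
  · rw [h, c.selfcent]
  · rw [h, map_inv, ← c.selfcent]
    congr 2
    ext y
    simp only [mem_centralizer_singleton_iff]
    exact ⟨fun e => (Commute.inv_right_iff.1 e), fun e => Commute.inv_right e⟩

/-- The centralizer of a nontrivial element of odd order has no subgroup of order eight. -/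
theorem not_eight_dvd {y : G} (hy : y ≠ 1) (ho : Odd (orderOf y)) :
    ¬ 8 ∣ Nat.card (centralizer ({y} : Set G)) := by
  intro h8
  have := Fact.mk Nat.prime_two
  obtain ⟨R, hR⟩ := Sylow.exists_subgroup_card_pow_prime (G := centralizer ({y} : Set G)) 2
    (n := 3) (by simpa using h8)
  have hR' : Nat.card (R.map (centralizer ({y} : Set G)).subtype) = 2 ^ 3 := by
    rw [card_map_of_injective (subtype_injective _), hR]
  obtain ⟨Q, hQ⟩ := (IsPGroup.of_card hR').exists_le_sylow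
  obtain ⟨g, hg⟩ := MulAction.exists_smul_eq G S Q
  have hcard : Nat.card (Q : Subgroup G) ≤ Nat.card (R.map (centralizer ({y} : Set G)).subtype) := by
    rw [hR', Q.card_eq_multiplicity, ← S.card_eq_multiplicity, c.data.card_sylow]
    norm_num
  have heq := eq_of_le_of_card_ge hQ hcard
  have hmem : g * ι (r 1) * g⁻¹ ∈ (Q : Subgroup G) := by
    rw [← hg, Sylow.coe_subgroup_smul]
    exact ⟨_, c.data.mem _, rfl⟩
  rw [← heq] at hmem
  obtain ⟨u, -, hu⟩ := hmem
  have hu' : (u : G) = g * ι (r 1) * g⁻¹ := hu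
  have h1 := mem_centralizer_singleton_iff.1 u.2
  rw [hu'] at h1
  have h2 : g⁻¹ * y * g = 1 := c.odd_commute_rot
    (by
      have := MulEquiv.orderOf_eq (MulAut.conj g⁻¹) y
      rw [MulAut.conj_apply, inv_inv] at this
      rwa [this])
    (calc g⁻¹ * y * g * ι (r 1) = g⁻¹ * (y * (g * ι (r 1) * g⁻¹)) * g := by group
      _ = g⁻¹ * ((g * ι (r 1) * g⁻¹) * y) * g := by rw [h1]
      _ = ι (r 1) * (g⁻¹ * y * g) := by group)
  exact hy (by
    calc y = g * (g⁻¹ * y * g) * g⁻¹ := by group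
      _ = 1 := by rw [h2, mul_one, mul_inv_cancel])

/-- An element centralizing `fixpt ι 0` permuting the involutions of its four-group cyclically. -/
theorem exists_three : ∃ g : G, g * ι (r (dh 2)) * g⁻¹ = ι (sr 0) ∧
    ∀ y ∈ fixpt ι 0, g * y = y * g := by
  obtain ⟨π, h⟩ := exists_proj c.data
  set z := ι (r (dh 2)) with hz
  set t := ι (sr 0) with ht
  obtain ⟨g, hg⟩ := isConj_iff.1 (c.fused z t c.data.z_order (c.data.sr_order 0))
  have htt : t * t = 1 := by rw [ht, ← map_mul, sr_mul_self, map_one]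
  have htz : t * z = z * t := c.data.z_comm (c.data.mem _)
  -- the preimage of `z`
  set s := g⁻¹ * z * g with hs
  have hsJ : s ∈ cJ ι := by
    refine mem_centralizer_singleton_iff.2 ?_
    show s * z = z * s
    calc s * z = g⁻¹ * (z * (g * z * g⁻¹)) * g := by rw [hs]; group
      _ = g⁻¹ * ((g * z * g⁻¹) * z) * g := by rw [hg, htz]
      _ = z * s := by rw [hs]; group
  have hs2 : (⟨s, hsJ⟩ : cJ ι) * ⟨s, hsJ⟩ = 1 := Subtype.ext (by
    show s * s = 1
    have hzz : z * z = 1 := by rw [hz, ← map_mul, r_mul_r, ← two_mul, two_dh c.data.pos, ← one_def, map_one]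
    calc s * s = g⁻¹ * (z * z) * g := by rw [hs]; group
      _ = 1 := by rw [hzz, mul_one, inv_mul_cancel])
  obtain ⟨v, hv, d, hπ, hsd⟩ := c.exists_decomp h hsJ
  have hd1 : d ≠ 1 := fun e => by
    have h1 := h.eq_one_of_sq (hπ.trans e) hs2
    have h2 : s = 1 := congrArg Subtype.val h1
    have h3 : z = 1 := by
      calc z = g * s * g⁻¹ := by rw [hs]; group
        _ = 1 := by rw [h2, mul_one, mul_inv_cancel]
    have := c.data.z_order
    rw [← hz, h3, orderOf_one] at this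
    omega
  have hdz : d ≠ r (dh 2) := fun e => by
    have h1 := h.eq_z c.data hs2 (hπ.trans e)
    have h2 : s = z := congrArg Subtype.val h1
    have h3 : t = z := by
      calc t = g * s * g⁻¹ := by rw [h2, hg]
        _ = z := by rw [hs]; group
    have h4 := c.data.inj h3
    cases h4
  obtain ⟨a, hda⟩ : ∃ a, d = sr a := by
    have hdd : d * d = 1 := by rw [← hπ, ← map_mul, hs2, map_one]
    revert hdd hd1 hdz
    clear hπ hsd
    revert d
    decide
  obtain ⟨u, huK, hu⟩ := h.exists_conj_section c.data (x := ⟨s, hsJ⟩)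
    (IsPGroup.of_card (p := 2) (n := 1) (by
      rw [Nat.card_zpowers, pow_one]
      refine orderOf_eq_prime (by rw [pow_two, hs2]) fun e => hd1 ?_
      rw [← hπ, e, map_one]))
  have hu' : (u : G) * s * (u : G)⁻¹ = ι (sr a) := by
    have := congrArg Subtype.val hu
    rwa [coe_iotaC, hπ, hda, Subgroup.coe_mul, Subgroup.coe_mul, Subgroup.coe_inv] at this
  have huO : (u : G) ∈ oker ι := (c.mem_oker h).2 ⟨u.2, huK⟩
  set w := ι (r 1) with hw
  have hwsr : w * ι (sr a) * w⁻¹ = z * ι (sr a) := by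
    rw [hw, hz, ← map_inv, ← map_mul, ← map_mul, ← map_mul]
    have key : ∀ a : ZMod (2 ^ 2), r 1 * sr a * (r 1)⁻¹ = r (dh 2) * sr a := by decide
    exact congrArg ι (key a)
  have hwz : w * z * w⁻¹ = z := by
    rw [hw, hz, c.data.z_comm (c.data.mem _), mul_inv_cancel_right]
  set v1 := (u : G)⁻¹ * w * u with hv1
  have huz : (u : G) * z * (u : G)⁻¹ = z := by
    rw [mem_centralizer_singleton_iff.1 u.2, mul_inv_cancel_right]
  have huz' : (u : G)⁻¹ * z * u = z := by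
    rw [mul_assoc, ← mem_centralizer_singleton_iff.1 u.2, inv_mul_cancel_left]
  have hv1z : v1 * z * v1⁻¹ = z := by
    calc v1 * z * v1⁻¹ = (u : G)⁻¹ * (w * ((u : G) * z * (u : G)⁻¹) * w⁻¹) * u := by rw [hv1]; group
      _ = z := by rw [huz, hwz, huz']
  have hv1s : v1 * s * v1⁻¹ = z * s := by
    calc v1 * s * v1⁻¹ = (u : G)⁻¹ * (w * ((u : G) * s * (u : G)⁻¹) * w⁻¹) * u := by rw [hv1]; group
      _ = (u : G)⁻¹ * (z * ((u : G) * s * (u : G)⁻¹)) * u := by rw [hu', hwsr]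
      _ = ((u : G)⁻¹ * z * u) * s := by group
      _ = z * s := by rw [huz']
  -- the element fixing `t`
  set w' := g * v1 * g⁻¹ with hw'
  have hw't : w' * t * w'⁻¹ = t := by
    calc w' * t * w'⁻¹ = g * v1 * g⁻¹ * (g * z * g⁻¹) * (g * v1 * g⁻¹)⁻¹ := by rw [hg]
      _ = g * (v1 * z * v1⁻¹) * g⁻¹ := by group
      _ = t := by rw [hv1z, hg]
  have hw'z : w' * z * w'⁻¹ = t * z := by
    calc w' * z * w'⁻¹ = g * (v1 * s * v1⁻¹) * g⁻¹ := by rw [hw', hs]; group
      _ = g * (z * s) * g⁻¹ := by rw [hv1s]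
      _ = (g * z * g⁻¹) * z := by rw [hs]; group
      _ = t * z := by rw [hg]
  refine ⟨w * w', ?_, fun y hy => ?_⟩
  · calc w * w' * z * (w * w')⁻¹ = w * (w' * z * w'⁻¹) * w⁻¹ := by group
      _ = w * (t * z) * w⁻¹ := by rw [hw'z]
      _ = (w * t * w⁻¹) * (w * z * w⁻¹) := by group
      _ = ι (sr 0) := by
        rw [hwz, hw, ht, hz, ← map_inv, ← map_mul, ← map_mul, ← map_mul]
        exact congrArg ι (by decide)
  · obtain ⟨hyK, hyt⟩ := mem_fixpt.1 hy
    set y₀ := g⁻¹ * y * g with hy₀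
    have hy₀K : y₀ ∈ oker ι := by
      refine c.mem_oker_of_odd (mem_centralizer_singleton_iff.2 ?_) ?_
      · calc y₀ * z = g⁻¹ * (y * (g * z * g⁻¹)) * g := by rw [hy₀]; group
          _ = g⁻¹ * ((g * z * g⁻¹) * y) * g := by rw [hg]; rw [hyt]
          _ = z * y₀ := by rw [hy₀]; group
      · have := MulEquiv.orderOf_eq (MulAut.conj g⁻¹) y
        rw [MulAut.conj_apply, inv_inv] at this
        rw [hy₀, this]
        exact c.odd_of_mem hyK
    have h1 : v1 * y₀ * v1⁻¹ = y₀⁻¹ := by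
      have hcu : (u : G) * y₀ * (u : G)⁻¹ = y₀ := by rw [c.comm huO hy₀K, mul_inv_cancel_right]
      calc v1 * y₀ * v1⁻¹ = (u : G)⁻¹ * (w * ((u : G) * y₀ * (u : G)⁻¹) * w⁻¹) * u := by rw [hv1]; group
        _ = (u : G)⁻¹ * y₀⁻¹ * u := by rw [hcu, c.invert hy₀K]
        _ = y₀⁻¹ := by rw [mul_assoc, ← c.comm huO (inv_mem hy₀K), inv_mul_cancel_left]
    have h2 : w' * y * w'⁻¹ = y⁻¹ := by
      calc w' * y * w'⁻¹ = g * (v1 * y₀ * v1⁻¹) * g⁻¹ := by rw [hw', hy₀]; group
        _ = g * y₀⁻¹ * g⁻¹ := by rw [h1]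
        _ = y⁻¹ := by rw [hy₀]; group
    refine mul_inv_eq_iff_eq_mul.1 ?_
    calc w * w' * y * (w * w')⁻¹ = w * (w' * y * w'⁻¹) * w⁻¹ := by group
      _ = (w * y * w⁻¹)⁻¹ := by rw [h2]; group
      _ = y := by rw [c.invert hyK, inv_inv]

end Cfg

end Cfsg.Agent.SmallCent
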