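import Cfsg.Agent.SmallCent.Arith
import Cfsg.Agent.SmallCent.Local
import Cfsg.Agent.Char.KleinBlock
import Cfsg.Agent.Char.KleinSection
import Cfsg.Agent.Blocks.Idempotent

/-!
# The centralizer of an element fixed by a reflection

Its Sylow 2-subgroup is a four-group and the order formula of the principal 2-block applies.
-/

set_option autoImplicit false

namespace Cfsg.Agent.SmallCent

open DihedralGroup Cfsg.Agent Cfsg.Agent.Invol Cfsg.Agent.BlockThms.Dihedral Subgroup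

universe u

variable {G : Type u} [Group G]

/-- Signed degrees for a group with a four-group Sylow subgroup and no normal 2-complement. -/
theorem klein_signed {H : Type u} [Group H] [Finite H] (g₀ : ℕ) (hg₀ : Odd g₀)
    (hH : Nat.card H = 4 * g₀) (hnc : ¬ ∃ N : Subgroup H, N.Normal ∧ Nat.card N = g₀)
    (P : Sylow 2 H) (J : H) (hJ : J ∈ (P : Subgroup H)) (hJ2 : orderOf J = 2) :
    ∃ (k : ℕ) (a b d : ℤ), a % 4 = 1 ∧ b % 4 = 1 ∧ d % 4 = 1 ∧ 1 + a + b + d = 0 ∧
      Nat.card (centralizer ({J} : Set H)) =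
        k * Nat.card (centralizer ((P : Subgroup H) : Set H)) ∧
      (Nat.card H : ℚ) * (1 + 1 / (a : ℚ) + 1 / b + 1 / d) =
        8 * (Nat.card (centralizer ({J} : Set H)) : ℚ) * (k : ℚ) ^ 2 := by
  classical
  cases nonempty_fintype H
  obtain ⟨M, hM⟩ := Blocks.exists_isPModular 2 Nat.prime_two
  obtain ⟨a, ha, hsum⟩ := Char.klein_section M hM g₀ hg₀ hH hnc P J hJ hJ2
  let B : Finset (IrrCharacter H) := Finset.univ.filter fun χ => χ ∈ Cfsg.principalBlock M H
  have hB : ∀ χ, χ ∈ B ↔ χ ∈ Cfsg.principalBlock M H := fun χ => by simp [B]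
  rw [← Finset.sum_filter] at hsum
  change ∑ χ ∈ B, a χ ^ 2 = 4 at hsum
  have htriv : Blocks.triv H ∈ B := (hB _).2 (Blocks.triv_mem_principalBlock hM)
  have ha1 : a (Blocks.triv H) = 1 := by
    have h : (1 : ℂ) = a (Blocks.triv H) := (ha _ ((hB _).1 htriv)).2
    exact_mod_cast h.symm
  rw [← Finset.add_sum_erase _ _ htriv, ha1] at hsum
  have hsq : ∀ χ ∈ B.erase (Blocks.triv H), a χ ^ 2 = 1 := by
    intro χ hχ
    have h0 := (ha χ ((hB χ).1 (Finset.mem_of_mem_erase hχ))).1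
    have hle := Finset.single_le_sum (f := fun ψ => a ψ ^ 2) (fun ψ _ => sq_nonneg _) hχ
    have h2 : a χ ^ 2 ≤ 3 := by linarith
    have h3 : -1 ≤ a χ := by nlinarith
    have h4 : a χ ≤ 1 := by nlinarith
    rcases (by omega : a χ = 1 ∨ a χ = -1) with h | h <;> rw [h] <;> norm_num
  have hcard : (B.erase (Blocks.triv H)).card = 3 := by
    rw [Finset.sum_congr rfl hsq, Finset.sum_const, nsmul_eq_mul, mul_one] at hsum
    omega
  obtain ⟨χ₁, χ₂, χ₃, h12, h13, h23, he⟩ := Finset.card_eq_three.1 hcard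
  have hm : ∀ χ, (χ = χ₁ ∨ χ = χ₂ ∨ χ = χ₃) ↔ χ ∈ B.erase (Blocks.triv H) := fun χ => by
    rw [he]; simp
  have hne : ∀ χ, χ ∈ B.erase (Blocks.triv H) → (χ : H → ℂ) ≠ (fun _ => 1) := fun χ hχ h =>
    Finset.ne_of_mem_erase hχ (Subtype.ext h)
  have m1 := (hm χ₁).1 (Or.inl rfl)
  have m2 := (hm χ₂).1 (Or.inr (Or.inl rfl))
  have m3 := (hm χ₃).1 (Or.inr (Or.inr rfl))
  have hset : Cfsg.principalBlock M H =
      {χ : IrrCharacter H | (χ : H → ℂ) = (fun _ => 1) ∨ χ = χ₁ ∨ χ = χ₂ ∨ χ = χ₃} := by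
    ext χ
    rw [← hB]
    show χ ∈ B ↔ _ ∨ _
    constructor
    · intro hχ
      by_cases h : χ = Blocks.triv H
      · exact Or.inl (by rw [h]; rfl)
      · exact Or.inr ((hm χ).2 (Finset.mem_erase.2 ⟨h, hχ⟩))
    · rintro (h | h)
      · rwa [show χ = Blocks.triv H from Subtype.ext h]
      · exact Finset.mem_of_mem_erase ((hm χ).1 h)
  have hv : ∀ χ ∈ B.erase (Blocks.triv H), (a χ = 1 ∨ a χ = -1) ∧ (χ : H → ℂ) J = a χ :=
    fun χ hχ =>
      ⟨sq_eq_one_iff.1 (hsq χ hχ), (ha χ ((hB χ).1 (Finset.mem_of_mem_erase hχ))).2⟩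
  obtain ⟨k, x₁, x₂, x₃, -, ⟨d1, d2, d3⟩, -, hC, hrel, hcount, -, -⟩ :=
    Char.klein_data M hM g₀ hg₀ hH hnc P J hJ hJ2 χ₁ χ₂ χ₃ _ _ _ hset
      ⟨hne χ₁ m1, hne χ₂ m2, hne χ₃ m3, h12, h13, h23⟩
      ⟨(hv χ₁ m1).1, (hv χ₂ m2).1, (hv χ₃ m3).1⟩
      ⟨(hv χ₁ m1).2, (hv χ₂ m2).2, (hv χ₃ m3).2⟩
  -- the congruence
  have hmod : ∀ χ ∈ B.erase (Blocks.triv H), ∀ x : ℕ, (χ : H → ℂ) 1 = x →
      (a χ * (x : ℤ)) % 4 = 1 := by
    intro χ hχ x hx
    obtain ⟨q, hq⟩ := Char.classInner_isCharacter_eq_natCast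
      (Char.isCharacter_res (P : Subgroup H) (Char.IsIrr.isCharacter χ.2))
      (Char.isCharacter_one (G := (P : Subgroup H)))
    rw [Cfsg.classInner, ← Finset.add_sum_erase _ _ (Finset.mem_univ (1 : (P : Subgroup H)))] at hq
    have hP : Nat.card (P : Subgroup H) = 4 := Char.card_sylow_four hH hg₀ P
    have hval : ∀ y ∈ (Finset.univ : Finset (P : Subgroup H)).erase 1,
        (χ : H → ℂ) ((y : H)) * starRingEnd ℂ 1 = (a χ : ℂ) := by
      intro y hy
      have hy1 : (y : H) ≠ 1 := fun e => Finset.ne_of_mem_erase hy (Subtype.ext e)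
      rw [map_one, mul_one, ← Char.classFun_isConj (Char.isClassFunction_of_isIrr χ.2)
        (Char.sylow_four_involutions hH hg₀ hnc P hJ hJ2 y.2 hy1).2]
      exact (hv χ hχ).2
    rw [Finset.sum_congr rfl hval, Finset.sum_const, Finset.card_erase_of_mem (Finset.mem_univ _),
      Finset.card_univ, ← Nat.card_eq_fintype_card, hP] at hq
    simp only [OneMemClass.coe_one, map_one, mul_one, hx, nsmul_eq_mul] at hq
    have h4 : (x : ℤ) + 3 * a χ = 4 * q := by
      apply Int.cast_injective (α := ℂ)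
      push_cast at hq ⊢
      linear_combination 4 * hq
    rcases (hv χ hχ).1 with e | e <;> rw [e] at h4 ⊢ <;> omega
  refine ⟨k, a χ₁ * x₁, a χ₂ * x₂, a χ₃ * x₃, hmod _ m1 _ d1, hmod _ m2 _ d2, hmod _ m3 _ d3,
    by linarith, hC, ?_⟩
  have hinv : ∀ χ ∈ B.erase (Blocks.triv H), ∀ x : ℕ,
      1 / ((a χ * (x : ℤ) : ℤ) : ℚ) = (a χ : ℚ) / x := by
    intro χ hχ x
    rcases (hv χ hχ).1 with e | e <;> rw [e] <;> simp [div_neg, neg_div]
  rw [hinv _ m1, hinv _ m2, hinv _ m3]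
  apply Rat.cast_injective (α := ℂ)
  push_cast
  exact hcount

namespace Cfg

variable [Finite G] {S : Sylow 2 G} {ι : DihedralGroup (2 ^ 2) →* G} (c : Cfg S ι)
include c

/-- An element over `d` centralizes a fixed point of `sr 0` exactly when `d` lies in the four-group. -/
theorem commute_iff {π : cJ ι →* DihedralGroup (2 ^ 2)} (h : Proj ι π) {y x : G}
    (hy : y ∈ fixpt ι 0) (hy1 : y ≠ 1) (hx : x ∈ cJ ι) :
    x * y = y * x ↔ π ⟨x, hx⟩ ∈ dfour c.data.pos 0 := by
  obtain ⟨v, hv, d, hπ, rfl⟩ := c.exists_decomp h hx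
  rw [hπ]
  have hyK := (mem_fixpt.1 hy).1
  have hne : y⁻¹ ≠ y := fun e => hy1 (eq_one_of_odd_sq (c.odd_of_mem hyK) (by
    nth_rewrite 1 [← e]
    exact inv_mul_cancel y))
  have hiff : v * ι d * y = y * (v * ι d) ↔ ι d * y * (ι d)⁻¹ = y := by
    rw [mul_inv_eq_iff_eq_mul]
    constructor
    · intro e
      apply mul_left_cancel (a := v)
      rw [← mul_assoc, e, ← mul_assoc, c.comm hyK hv, mul_assoc]
    · intro e
      rw [mul_assoc, e, ← mul_assoc, ← c.comm hyK hv, mul_assoc]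
  rw [hiff, mem_dfour_iff]
  rcases d with i | i
  · rw [c.rot_conj hyK i]
    have key : ∀ i : ZMod (2 ^ 2), (i = 1 ∨ i = 3) ↔ ¬ ((r i : DihedralGroup (2 ^ 2)) = r 0 ∨
        r i = r (dh 2) ∨ r i = sr 0 ∨ r i = sr (0 + dh 2)) := by decide
    by_cases hi : i = 1 ∨ i = 3
    · rw [if_pos hi]; exact iff_of_false hne ((key i).1 hi)
    · rw [if_neg hi]; exact iff_of_true rfl (not_not.1 fun hn => hi ((key i).2 hn))
  · rw [c.sr_conj hy i, sub_zero]
    have key : ∀ i : ZMod (2 ^ 2), (i = 1 ∨ i = 3) ↔ ¬ ((sr i : DihedralGroup (2 ^ 2)) = r 0 ∨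
        sr i = r (dh 2) ∨ sr i = sr 0 ∨ sr i = sr (0 + dh 2)) := by decide
    by_cases hi : i = 1 ∨ i = 3
    · rw [if_pos hi]; exact iff_of_false hne ((key i).1 hi)
    · rw [if_neg hi]; exact iff_of_true rfl (not_not.1 fun hn => hi ((key i).2 hn))

/-- The order of the centralizer of a fixed point. -/
theorem klein_count {y : G} (hy : y ∈ fixpt ι 0) (hy1 : y ≠ 1) :
    ∃ (m : ℕ) (a b d : ℤ), Odd m ∧ Nat.card (centralizer ({y} : Set G)) = 4 * m ∧
      4 * Nat.card (oker ι) ∣ 4 * m ∧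
      a % 4 = 1 ∧ b % 4 = 1 ∧ d % 4 = 1 ∧ 1 + a + b + d = 0 ∧
      (Nat.card (centralizer ({y} : Set G)) : ℚ) * (1 + 1 / (a : ℚ) + 1 / b + 1 / d) =
        32 * (Nat.card (oker ι) : ℚ) * (Nat.card (fixpt ι 1) : ℚ) ^ 2 := by
  classical
  obtain ⟨π, h⟩ := exists_proj c.data
  have hyK := (mem_fixpt.1 hy).1
  set Y := centralizer ({y} : Set G) with hY
  set z := ι (r (dh 2)) with hz
  set V := (dfour c.data.pos 0).map ι with hVdef
  have hVM : V ≤ Y := by
    rintro _ ⟨d, hd, rfl⟩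
    refine mem_centralizer_singleton_iff.2 ((c.commute_iff h hy hy1 (iota_mem c.data d)).2 ?_)
    rwa [h.sec]
  have hVcard : Nat.card V = 4 := c.data.four_card 0
  have hzV : z ∈ V := ⟨_, (mem_dfour_iff c.data.pos).2 (Or.inr (Or.inl rfl)), rfl⟩
  have htV : ι (sr 0) ∈ V := ⟨_, (mem_dfour_iff c.data.pos).2 (Or.inr (Or.inr (Or.inl rfl))), rfl⟩
  obtain ⟨m, hm⟩ : 4 ∣ Nat.card Y := hVcard ▸ card_dvd_of_le hVM
  have hmodd : Odd m := Nat.not_even_iff_odd.1 fun he => by
    refine c.not_eight_dvd hy1 (c.odd_of_mem hyK) ?_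
    obtain ⟨q, rfl⟩ := he.two_dvd
    exact ⟨q, by rw [← hY, hm]; ring⟩
  have hfac : (Nat.card Y).factorization 2 = 2 := by
    rw [hm, Nat.factorization_mul (by norm_num) hmodd.pos.ne', Finsupp.add_apply,
      Nat.factorization_eq_zero_of_not_dvd hmodd.not_two_dvd_nat, add_zero,
      show (4 : ℕ) = 2 ^ 2 from rfl, Nat.factorization_pow, Finsupp.smul_apply,
      Nat.prime_two.factorization_self, smul_eq_mul, mul_one]
  have := Fact.mk Nat.prime_two
  let P : Sylow 2 Y := Sylow.ofCard (V.subgroupOf Y) (by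
    rw [Nat.card_congr (subgroupOfEquivOfLe hVM).toEquiv, hVcard, hfac]; norm_num)
  let J : Y := ⟨z, hVM hzV⟩
  have hJP : J ∈ (P : Subgroup Y) := by
    rw [Sylow.coe_ofCard]
    exact hzV
  have hJ2 : orderOf J = 2 := by rw [← Subgroup.orderOf_coe]; exact c.data.z_order
  have hnc : ¬ ∃ N : Subgroup Y, N.Normal ∧ Nat.card N = m := by
    rintro ⟨N, hN, hNm⟩
    obtain ⟨g, hg, hgc⟩ := c.exists_three
    let g' : Y := ⟨g, mem_centralizer_singleton_iff.2 (hgc y hy)⟩
    let T : Y := ⟨ι (sr 0), hVM htV⟩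
    have hT : g' * J * g'⁻¹ = T := Subtype.ext hg
    have hq : Nat.card (Y ⧸ N) = 2 ^ 2 := by
      have h1 := N.card_mul_index
      rw [hNm, hm, mul_comm 4 m] at h1
      rw [← index_eq_card]
      exact Nat.eq_of_mul_eq_mul_left hmodd.pos h1
    have hcomm := IsPGroup.commutative_of_card_eq_prime_sq hq
    have h2 : ((T * J⁻¹ : Y) : Y ⧸ N) = 1 := by
      rw [← hT, QuotientGroup.mk_mul, QuotientGroup.mk_mul, QuotientGroup.mk_mul,
        QuotientGroup.mk_inv, QuotientGroup.mk_inv, hcomm (g' : Y ⧸ N) J]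
      group
    have h3 : T * J⁻¹ ∈ N := (QuotientGroup.eq_one_iff _).1 h2
    have hne : T * J⁻¹ ≠ 1 := fun e => by
      have e' : ι (sr 0) = z := congrArg Subtype.val (mul_inv_eq_one.1 e)
      have := c.data.inj e'
      cases this
    have hsq : (T * J⁻¹) * (T * J⁻¹) = 1 := Subtype.ext (by
      show ι (sr 0) * (ι (r (dh 2)))⁻¹ * (ι (sr 0) * (ι (r (dh 2)))⁻¹) = 1
      rw [← map_inv, ← map_mul, ← map_mul, ← map_one ι]
      exact congrArg ι (by decide))
    have ho : Odd (orderOf (T * J⁻¹)) :=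
      hmodd.of_dvd_nat (hNm ▸ Subgroup.orderOf_dvd_natCard N h3)
    exact hne (eq_one_of_odd_sq ho hsq)
  obtain ⟨k', a, b, d, ha, hb, hd, hrel, hC, hcount⟩ :=
    klein_signed m hmodd hm hnc P J hJP hJ2
  -- the two centralizers
  have hcJ : Nat.card (centralizer ({J} : Set Y)) = 4 * Nat.card (oker ι) := by
    have hsurj : Function.Surjective π := fun d => ⟨iotaC c.data d, h.proj_iotaC c.data d⟩
    have e : Nat.card (centralizer ({J} : Set Y)) = Nat.card ((dfour c.data.pos 0).comap π) := by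
      refine Nat.card_congr
        { toFun := fun x => ⟨⟨(x.1 : G), mem_centralizer_singleton_iff.2
            (congrArg Subtype.val (mem_centralizer_singleton_iff.1 x.2))⟩,
            (c.commute_iff h hy hy1 _).1 (mem_centralizer_singleton_iff.1 x.1.2)⟩
          invFun := fun x => ⟨⟨(x.1 : G), mem_centralizer_singleton_iff.2
            ((c.commute_iff h hy hy1 x.1.2).2 x.2)⟩,
            mem_centralizer_singleton_iff.2 (Subtype.ext (mem_centralizer_singleton_iff.1 x.1.2))⟩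
          left_inv := fun _ => rfl
          right_inv := fun _ => rfl }
    rw [e]
    have h1 := ((dfour c.data.pos 0).comap π).card_mul_index
    rw [index_comap_of_surjective _ hsurj, c.card_cJ] at h1
    have h2 := (dfour c.data.pos (0 : ZMod (2 ^ 2))).card_mul_index
    rw [dfour_card, DihedralGroup.nat_card] at h2
    have h3 : (dfour c.data.pos (0 : ZMod (2 ^ 2))).index = 2 := by norm_num at h2; omega
    rw [h3] at h1
    omega
  have hcP : Nat.card (centralizer ((P : Subgroup Y) : Set Y)) = 4 * Nat.card (fixpt ι 0) := by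
    rw [← c.card_joint 0]
    have hin : ∀ x ∈ centralizer ({ι (r (dh 2)), ι (sr 0)} : Set G), x ∈ Y := by
      intro x hx
      obtain ⟨hxJ, hxt⟩ := (c.mem_cJ_centralizer h).1 hx
      refine mem_centralizer_singleton_iff.2 ((c.commute_iff h hy hy1 hxJ).2 ?_)
      refine commute_sr c.data.pos ?_
      have hsr : π ⟨ι (sr 0), iota_mem c.data _⟩ = sr 0 := h.sec _ _
      rw [← hsr, ← map_mul, ← map_mul]
      exact congrArg π (Subtype.ext hxt)
    refine Nat.card_congr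
      { toFun := fun x => ⟨(x.1 : G), mem_centralizer_iff.2 ?_⟩
        invFun := fun x => ⟨⟨(x.1 : G), hin _ x.2⟩, mem_centralizer_iff.2 ?_⟩
        left_inv := fun _ => rfl
        right_inv := fun _ => rfl }
    · rintro v (rfl | rfl)
      · exact congrArg Subtype.val (mem_centralizer_iff.1 x.2 J hJP)
      · exact congrArg Subtype.val (mem_centralizer_iff.1 x.2 ⟨ι (sr 0), hVM htV⟩
          (by rw [Sylow.coe_ofCard]; exact htV))
    · rintro p hp
      rw [Sylow.coe_ofCard] at hp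
      obtain ⟨q, hq, hqp⟩ := hp
      refine Subtype.ext ?_
      show (p : G) * x.1 = x.1 * p
      have hqp' : ι q = (p : G) := hqp
      rw [← hqp']
      have hz' := mem_centralizer_iff.1 x.2 _ (Or.inl rfl)
      have ht' := mem_centralizer_iff.1 x.2 _ (Or.inr rfl)
      rcases (mem_dfour_iff c.data.pos).1 hq with rfl | rfl | rfl | rfl
      · rw [← one_def, map_one, one_mul, mul_one]
      · exact hz'
      · exact ht'
      · rw [show (sr (0 + dh 2) : DihedralGroup (2 ^ 2)) = sr 0 * r (dh 2) from (sr_mul_r _ _).symm,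
          map_mul]
        exact (Commute.mul_left (ht' : Commute (ι (sr 0)) (x.1 : G)) hz').eq
  rw [hcJ, hcP, c.card_oker 0, zero_add] at hC
  have hk' : k' = Nat.card (fixpt ι 1) := by
    refine Nat.eq_of_mul_eq_mul_right (show 0 < 4 * Nat.card (fixpt ι 0) by
      have : 0 < Nat.card (fixpt ι 0) := Nat.card_pos
      omega) ?_
    rw [← hC]; ring
  refine ⟨m, a, b, d, hmodd, hm, ?_, ha, hb, hd, hrel, ?_⟩
  · rw [← hm, ← hcJ]
    exact card_subgroup_dvd_card _
  · rw [hcount, hcJ, hk']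
    push_cast
    ring

end Cfg

end Cfsg.Agent.SmallCent
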