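import Cfsg.Agent.SmallCent.Local
import Cfsg.Agent.Char.Ortho

/-!
# The class of an element of the odd core is large

The subgroup `kSub` of order `4 * k` acts on the conjugates outside `oker` with stabilizers inside
`oker`.
-/

set_option autoImplicit false

namespace Cfsg.Agent.SmallCent

open DihedralGroup Cfsg.Agent Cfsg.Agent.Invol Cfsg.Agent.BlockThms.Dihedral Subgroup

universe u

variable {G : Type u} [Group G] [Finite G]

/-- A subgroup centralizing a class of non-trivial elements of a non-abelian simple group is trivial. -/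
theorem eq_bot_of_commute_class [IsSimpleGroup G] (hab : ∃ a b : G, a * b ≠ b * a) {y : G}
    (hy : y ≠ 1) {T : Subgroup G} (hT : ∀ t ∈ T, ∀ x, IsConj y x → t * x = x * t) : T = ⊥ := by
  let N := Subgroup.normalClosure ({y} : Set G)
  have hN : N = ⊤ := (IsSimpleGroup.eq_bot_or_eq_top_of_normal N inferInstance).resolve_left
    fun e => hy (Subgroup.mem_bot.1 (e ▸ Subgroup.subset_normalClosure (Set.mem_singleton y)))
  have hle : T ≤ center G := by
    intro t ht
    have h1 : N ≤ centralizer ({t} : Set G) := by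
      refine (Subgroup.closure_le _).2 fun x hx => ?_
      obtain ⟨a, ha, hax⟩ := Group.mem_conjugatesOfSet_iff.1 hx
      rw [Set.mem_singleton_iff] at ha
      exact mem_centralizer_singleton_iff.2 (hT t ht x (ha ▸ hax)).symm
    rw [hN] at h1
    exact mem_center_iff.2 fun g => mem_centralizer_singleton_iff.1 (h1 (mem_top g))
  rcases IsSimpleGroup.eq_bot_or_eq_top_of_normal (center G) inferInstance with h | h
  · rw [h] at hle
    exact eq_bot_iff.2 hle
  · obtain ⟨a, b, hab⟩ := hab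
    exact absurd (mem_center_iff.1 (h ▸ mem_top b : b ∈ center G) a) hab

namespace Cfg

variable {S : Sylow 2 G} {ι : DihedralGroup (2 ^ 2) →* G} (c : Cfg S ι)
include c

theorem class_large [IsSimpleGroup G] (hab : ∃ a b : G, a * b ≠ b * a) {y : G} (hy : y ∈ oker ι)
    (hy1 : y ≠ 1) (hk : 9 ≤ Nat.card (oker ι)) :
    26 ≤ (centralizer ({y} : Set G)).index := by
  classical
  cases nonempty_fintype G
  obtain ⟨π, h⟩ := exists_proj c.data
  set X : Finset G := Finset.univ.filter fun x => IsConj y x with hX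
  have hXcard : X.card = (centralizer ({y} : Set G)).index := by
    rw [← Char.card_isConj_eq_index, Nat.card_eq_fintype_card, Fintype.card_subtype, hX]
  rw [← hXcard]
  set Y : Finset G := X.filter fun x => x ∉ oker ι with hY
  have hwy : ι (r 1) * y * (ι (r 1))⁻¹ = y⁻¹ := c.invert hy
  have htwo : Y.card + 2 ≤ X.card := by
    have hne : y ≠ y⁻¹ := fun e => hy1 (eq_one_of_odd_sq (c.odd_of_mem hy) (by
      nth_rewrite 2 [e]; exact mul_inv_cancel y))
    rw [← Finset.card_filter_add_card_filter_not (fun x => x ∉ oker ι) (s := X), ← hY]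
    refine Nat.add_le_add_left ?_ _
    rw [← Finset.card_pair hne]
    refine Finset.card_le_card fun x hx => ?_
    simp only [Finset.mem_insert, Finset.mem_singleton] at hx
    simp only [Finset.mem_filter, hX, Finset.mem_univ, true_and, not_not]
    rcases hx with rfl | rfl
    · exact ⟨IsConj.refl _, hy⟩
    · exact ⟨isConj_iff.2 ⟨_, hwy⟩, inv_mem hy⟩
  suffices 24 ≤ Y.card by omega
  by_contra hlt
  -- the acting subgroup
  set L := kSub π with hL
  have hLcard : Nat.card L = 4 * Nat.card (oker ι) := by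
    have h1 := two_card_kSub h c.data
    rw [c.card_cJ, ← hL] at h1
    omega
  have hconjK : ∀ l ∈ L, ∀ t ∈ oker ι, l⁻¹ * t * l = t ∨ l⁻¹ * t * l = t⁻¹ := by
    intro l hl t ht
    obtain ⟨hlJ, i, hi⟩ := mem_kSub_iff.1 hl
    obtain ⟨v, hv, d, hd, rfl⟩ := c.exists_decomp h hlJ
    obtain rfl : d = r i := hd.symm.trans hi
    have h2 : (v * ι (r i))⁻¹ * t * (v * ι (r i)) = ι (r (-i)) * t * (ι (r (-i)))⁻¹ := by
      rw [← inv_r, map_inv]
      calc (v * ι (r i))⁻¹ * t * (v * ι (r i)) = (ι (r i))⁻¹ * (v⁻¹ * (t * v)) * ι (r i) := by group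
        _ = (ι (r i))⁻¹ * (v⁻¹ * (v * t)) * ι (r i) := by rw [c.comm ht hv]
        _ = _ := by group
    rw [h2, c.rot_conj ht]
    split_ifs
    · exact Or.inr rfl
    · exact Or.inl rfl
  have hout : ∀ x ∈ Y, Odd (orderOf x) ∧ x ∉ oker ι := by
    intro x hx
    obtain ⟨h1, h2⟩ := Finset.mem_filter.1 hx
    obtain ⟨g, rfl⟩ := isConj_iff.1 (Finset.mem_filter.1 h1).2
    refine ⟨?_, h2⟩
    rw [← MulAut.conj_apply, MulEquiv.orderOf_eq]
    exact c.odd_of_mem hy
  have hstab : ∀ x ∈ Y, ∀ l ∈ L, l * x = x * l → l ∈ oker ι := by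
    intro x hx l hl hlx
    obtain ⟨hlJ, i, hi⟩ := mem_kSub_iff.1 hl
    by_cases hi0 : i = 0
    · exact (c.mem_oker h).2 ⟨hlJ, by rw [hi, hi0, ← one_def]⟩
    exfalso
    obtain ⟨p, hp⟩ := h.exists_pow_eq_z c.data (x := ⟨l, hlJ⟩) hi hi0
    have hz : l ^ p = ι (r (dh 2)) := congrArg Subtype.val hp
    have hxz : x * ι (r (dh 2)) = ι (r (dh 2)) * x := by
      rw [← hz]
      exact ((show Commute x l from hlx.symm).pow_right p).eq
    exact (hout x hx).2 (c.mem_oker_of_odd (mem_centralizer_singleton_iff.2 hxz) (hout x hx).1)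
  -- orbits
  have horb : ∀ x ∈ Y, ∃ O : Finset G, O ⊆ Y ∧
      (∀ x', x' ∈ O ↔ ∃ l ∈ L, l * x * l⁻¹ = x') ∧
      O.card * Nat.card ↥(oker ι ⊓ centralizer ({x} : Set G)) = 4 * Nat.card (oker ι) := by
    intro x hx
    set T := oker ι ⊓ centralizer ({x} : Set G) with hT
    have hTL : T ≤ L := fun t ht => by
      obtain ⟨htJ, hπ⟩ := (c.mem_oker h).1 ht.1
      exact mem_kSub_iff.2 ⟨htJ, 0, by rw [hπ, one_def]⟩
    let T' := T.subgroupOf L
    have hiff : ∀ a b : L, (a : G) * x * (a : G)⁻¹ = b * x * (b : G)⁻¹ ↔ a⁻¹ * b ∈ T' := by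
      intro a b
      have e : (a⁻¹ * b : L) ∈ T' ↔ (a : G)⁻¹ * b ∈ T := Iff.rfl
      rw [e, hT, mem_inf, mem_centralizer_singleton_iff]
      constructor
      · intro he
        have hc : (a : G)⁻¹ * b * x = x * ((a : G)⁻¹ * b) := by
          calc (a : G)⁻¹ * b * x = (a : G)⁻¹ * ((b : G) * x * (b : G)⁻¹) * b := by group
            _ = (a : G)⁻¹ * ((a : G) * x * (a : G)⁻¹) * b := by rw [he]
            _ = x * ((a : G)⁻¹ * b) := by group
        exact ⟨hstab x hx _ (mul_mem (inv_mem a.2) b.2) hc, hc⟩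
      · rintro ⟨-, hc⟩
        calc (a : G) * x * (a : G)⁻¹ = (a : G) * (x * ((a : G)⁻¹ * b)) * (b : G)⁻¹ := by group
          _ = (a : G) * ((a : G)⁻¹ * b * x) * (b : G)⁻¹ := by rw [hc]
          _ = b * x * (b : G)⁻¹ := by group
    let F : L ⧸ T' → G := fun q => Quotient.liftOn' q (fun a : L => (a : G) * x * (a : G)⁻¹)
      (fun a b hab' => (hiff a b).2 (QuotientGroup.leftRel_apply.1 hab'))
    have hFinj : Function.Injective F := by
      intro p q
      obtain ⟨a, rfl⟩ := QuotientGroup.mk_surjective p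
      obtain ⟨b, rfl⟩ := QuotientGroup.mk_surjective q
      exact fun he => QuotientGroup.eq.2 ((hiff a b).1 he)
    refine ⟨Finset.univ.image F, fun x' hx' => ?_, fun x' => ?_, ?_⟩
    · obtain ⟨q, -, rfl⟩ := Finset.mem_image.1 hx'
      obtain ⟨⟨l, hl⟩, rfl⟩ := QuotientGroup.mk_surjective q
      show l * x * l⁻¹ ∈ Y
      obtain ⟨h1, h2⟩ := Finset.mem_filter.1 hx
      refine Finset.mem_filter.2 ⟨Finset.mem_filter.2 ⟨Finset.mem_univ _,
        (Finset.mem_filter.1 h1).2.trans (isConj_iff.2 ⟨l, rfl⟩)⟩, fun hK => h2 ?_⟩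
      have := c.conj_mem (inv_mem (kSub_le hl)) hK
      rwa [show l⁻¹ * (l * x * l⁻¹) * l⁻¹⁻¹ = x by group] at this
    · rw [Finset.mem_image]
      constructor
      · rintro ⟨q, -, rfl⟩
        obtain ⟨⟨l, hl⟩, rfl⟩ := QuotientGroup.mk_surjective q
        exact ⟨l, hl, rfl⟩
      · rintro ⟨l, hl, rfl⟩
        exact ⟨((⟨l, hl⟩ : L) : L ⧸ T'), Finset.mem_univ _, rfl⟩
    · rw [Finset.card_image_of_injective _ hFinj, Finset.card_univ, ← Nat.card_eq_fintype_card,
        ← index_eq_card, mul_comm, ← Nat.card_congr (subgroupOfEquivOfLe hTL).toEquiv,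
        T'.card_mul_index, hLcard]
  -- some orbit is not fixed by `oker`
  have hfix : ∀ T : Subgroup G, T ≤ oker ι → (∀ x ∈ Y, T ≤ centralizer ({x} : Set G)) → T = ⊥ := by
    intro T hT hTY
    refine eq_bot_of_commute_class hab hy1 fun t ht x hx => ?_
    by_cases hK : x ∈ oker ι
    · exact c.comm (hT ht) hK
    · exact mem_centralizer_singleton_iff.1
        (hTY x (Finset.mem_filter.2 ⟨Finset.mem_filter.2 ⟨Finset.mem_univ _, hx⟩, hK⟩) ht)
  have hkodd := c.card_oker_odd
  have hsmall : ∀ x ∈ Y, ∀ O : Finset G, O.card * Nat.card ↥(oker ι ⊓ centralizer ({x} : Set G)) =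
      4 * Nat.card (oker ι) → ¬ oker ι ≤ centralizer ({x} : Set G) → 12 ≤ O.card := by
    intro x hx O hO hne
    obtain ⟨q, hq⟩ := card_dvd_of_le (inf_le_left : oker ι ⊓ centralizer ({x} : Set G) ≤ oker ι)
    have hpos : 0 < Nat.card ↥(oker ι ⊓ centralizer ({x} : Set G)) := Nat.card_pos
    have hq1 : q ≠ 1 := fun e => hne (by
      rw [e, mul_one] at hq
      exact (eq_of_le_of_card_ge inf_le_left hq.le).ge.trans inf_le_right)
    have hqodd : Odd q := hkodd.of_dvd_nat ⟨_, by rw [hq, mul_comm]⟩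
    obtain ⟨t, rfl⟩ := hqodd
    have : O.card = 4 * (2 * t + 1) := by
      refine Nat.eq_of_mul_eq_mul_right hpos ?_
      rw [hO, hq]; ring
    omega
  obtain ⟨x, hxY, hx⟩ : ∃ x ∈ Y, ¬ oker ι ≤ centralizer ({x} : Set G) := by
    by_contra! hc
    have := hfix (oker ι) le_rfl hc
    rw [this, card_bot] at hk
    omega
  obtain ⟨O, hOY, hOmem, hOcard⟩ := horb x hxY
  have hO12 := hsmall x hxY O hOcard hx
  set T := oker ι ⊓ centralizer ({x} : Set G) with hT
  have hTfix : ∀ x' ∈ Y, T ≤ centralizer ({x'} : Set G) := by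
    intro x' hx'Y t ht
    refine mem_centralizer_singleton_iff.2 ?_
    by_cases hx' : x' ∈ O
    · obtain ⟨l, hl, rfl⟩ := (hOmem x').1 hx'
      have htx := mem_centralizer_singleton_iff.1 ht.2
      have h2 : l⁻¹ * t * l * x = x * (l⁻¹ * t * l) := by
        rcases hconjK l hl t ht.1 with e | e <;> rw [e]
        · exact htx
        · exact (Commute.inv_left (show Commute t x from htx)).eq
      calc t * (l * x * l⁻¹) = l * (l⁻¹ * t * l * x) * l⁻¹ := by group
        _ = l * (x * (l⁻¹ * t * l)) * l⁻¹ := by rw [h2]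
        _ = l * x * l⁻¹ * t := by group
    · by_contra hne
      obtain ⟨O', hO'Y, hO'mem, hO'card⟩ := horb x' hx'Y
      have hO'12 := hsmall x' hx'Y O' hO'card fun hle =>
        hne (mem_centralizer_singleton_iff.1 (hle ht.1))
      have hdis : Disjoint O O' := by
        refine Finset.disjoint_left.2 fun a ha ha' => hx' ?_
        obtain ⟨l, hl, rfl⟩ := (hOmem a).1 ha
        obtain ⟨l', hl', he⟩ := (hO'mem _).1 ha'
        refine (hOmem x').2 ⟨l'⁻¹ * l, mul_mem (inv_mem hl') hl, ?_⟩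
        calc l'⁻¹ * l * x * (l'⁻¹ * l)⁻¹ = l'⁻¹ * (l * x * l⁻¹) * l' := by group
          _ = l'⁻¹ * (l' * x' * l'⁻¹) * l' := by rw [he]
          _ = x' := by group
      have := Finset.card_le_card (Finset.union_subset hOY hO'Y)
      rw [Finset.card_union_of_disjoint hdis] at this
      omega
  rw [hfix T inf_le_left hTfix, card_bot, mul_one] at hOcard
  have := Finset.card_le_card hOY
  omega

end Cfg

end Cfsg.Agent.SmallCent
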