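import Cfsg.Agent.SmallCent.Degrees
import Cfsg.Agent.SmallCent.DegreeFive
import Cfsg.Agent.SmallCent.Klein
import Cfsg.Agent.SmallCent.Orbit
import Cfsg.Agent.S0848
import Cfsg.Agent.S0984
import Cfsg.Agent.S0497
import Cfsg.Agent.Classical.SmallPSL

/-!
# Groups with a self-centralizing element of order four and dihedral Sylow 2-subgroups of order eight
-/

set_option autoImplicit false

namespace Cfsg.Agent.SmallCent

open DihedralGroup Cfsg.Agent Cfsg.Agent.Invol Cfsg.Agent.BlockThms.Dihedral Subgroup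

universe u

variable {G : Type u} [Group G] [Finite G] {S : Sylow 2 G} {ι : DihedralGroup (2 ^ 2) →* G}

namespace Cfg

variable (c : Cfg S ι)
include c

theorem index_mul_eq {y : G} {n : ℕ} (hn : Nat.card G = 8 * Nat.card (oker ι) * n) :
    (centralizer ({y} : Set G)).index * Nat.card (centralizer ({y} : Set G)) =
      8 * Nat.card (oker ι) * n := by
  rw [← hn, index_mul_card]

/-- The order `7560` does not occur. -/
theorem no_five [IsSimpleGroup G] (h5 : Nat.card (oker ι) = 5)
    (h1 : Nat.card (fixpt ι 1) = 1) (hn : Nat.card G = 7560) : False := by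
  classical
  have h0 : Nat.card (fixpt ι 0) = 5 := by
    have := c.card_oker 0
    rw [zero_add, h1, h5, mul_one] at this
    exact this.symm
  obtain ⟨⟨y, hy⟩, hy1⟩ : ∃ y : fixpt ι 0, y ≠ 1 := by
    have : Nontrivial (fixpt ι 0) := Finite.one_lt_card_iff_nontrivial.1 (by omega)
    exact exists_ne 1
  have hy1' : y ≠ 1 := fun e => hy1 (Subtype.ext e)
  obtain ⟨m, a, b, d, hmodd, hm, hdvd, ha, hb, hd, hrel, hcount⟩ := c.klein_count hy hy1'
  rw [h5] at hdvd
  obtain ⟨j, rfl⟩ : 5 ∣ m := Nat.dvd_of_mul_dvd_mul_left (by norm_num) hdvd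
  have hjodd : Odd j := (Nat.odd_mul.1 hmodd).2
  set F := 1 + 1 / (a : ℚ) + 1 / b + 1 / d with hF
  obtain ⟨hlo, hhi⟩ := klein_factor_bounds ha hb hd hrel
  have hne := klein_factor_ne_eight_ninths ha hb hd hrel
  rw [hm, h5, h1] at hcount
  push_cast at hcount
  have hjF : (j : ℚ) * F = 8 := by linear_combination hcount / 20
  rw [← hF] at hlo hhi hne
  have hj3 : 3 ≤ j := by
    have : (3 : ℚ) ≤ j := by nlinarith
    exact_mod_cast this
  have hj24 : j ≤ 24 := by
    have : (j : ℚ) ≤ 24 := by nlinarith [(Nat.cast_nonneg j : (0 : ℚ) ≤ j)]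
    exact_mod_cast this
  have hj9 : j ≠ 9 := fun e => hne (by rw [e] at hjF; push_cast at hjF; linarith)
  -- a Sylow 5-subgroup
  have hP : Fact (Nat.Prime 5) := ⟨Nat.prime_five⟩
  have hyo : orderOf y = 5 := by
    refine orderOf_eq_prime ?_ hy1'
    have := pow_card_eq_one' (x := (⟨y, (mem_fixpt.1 hy).1⟩ : oker ι))
    rw [h5] at this
    exact congrArg Subtype.val this
  have hfac : (Nat.card G).factorization 5 = 1 := by
    rw [hn, show 7560 = 5 * 1512 from rfl, Nat.factorization_mul (by norm_num) (by norm_num),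
      Finsupp.add_apply, Nat.prime_five.factorization_self,
      Nat.factorization_eq_zero_of_not_dvd (by norm_num : ¬ 5 ∣ 1512)]
  let P : Sylow 5 G := Sylow.ofCard (zpowers y) (by rw [Nat.card_zpowers, hyo, hfac, pow_one])
  have hPy : (P : Subgroup G) = zpowers y := Sylow.coe_ofCard _ _
  have hcent : centralizer ((P : Subgroup G) : Set G) = centralizer ({y} : Set G) := by
    rw [hPy, zpowers_eq_closure, centralizer_closure]
  set N := normalizer ((P : Subgroup G) : Set G) with hN
  set f := (P : Subgroup G).normalizerMonoidHom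
  have hker : Nat.card f.ker = 4 * (5 * j) := by
    rw [normalizerMonoidHom_ker, hcent,
      Nat.card_congr (subgroupOfEquivOfLe (hcent ▸ centralizer_le_normalizer _)).toEquiv, hm]
  have : IsCyclic (P : Subgroup G) := by rw [hPy]; infer_instance
  have hrange : Nat.card f.range ∣ 4 := by
    have h1 := card_subgroup_dvd_card f.range
    have hPcard : Nat.card (P : Subgroup G) = 5 := by
      rw [show Nat.card (P : Subgroup G) = Nat.card (zpowers y) by rw [hPy], Nat.card_zpowers, hyo]
    rwa [IsCyclic.card_mulAut, hPcard, Nat.totient_prime Nat.prime_five] at h1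
  have hrange1 : Nat.card f.range ≠ 1 := by
    intro e
    have hw := c.invert (mem_fixpt.1 hy).1
    have hwN : ι (r 1) ∈ N := by
      rw [hN, hPy, mem_normalizer_iff]
      intro x
      constructor
      · intro hx
        obtain ⟨i, rfl⟩ := mem_zpowers_iff.1 hx
        rw [← conj_zpow, hw]
        exact zpow_mem (inv_mem (mem_zpowers y)) i
      · intro hx
        obtain ⟨i, hi⟩ := mem_zpowers_iff.1 hx
        refine mem_zpowers_iff.2 ⟨-i, ?_⟩
        have hi' : (ι (r 1) * y * (ι (r 1))⁻¹) ^ (-i) = ι (r 1) * x * (ι (r 1))⁻¹ := by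
          rw [hw, inv_zpow, zpow_neg, inv_inv, hi]
        rw [conj_zpow] at hi'
        exact mul_left_cancel (mul_right_cancel hi')
    have hwk : (⟨_, hwN⟩ : N) ∈ f.ker := by
      rw [MonoidHom.mem_ker]
      have := (Nat.card_eq_one_iff_unique.1 e).1
      exact congrArg Subtype.val (Subsingleton.elim (⟨f ⟨_, hwN⟩, _, rfl⟩ : f.range) 1)
    rw [normalizerMonoidHom_ker, mem_subgroupOf, hcent, mem_centralizer_singleton_iff] at hwk
    rw [hwk, mul_inv_cancel_right] at hw
    exact hy1' (eq_one_of_odd_sq (c.odd_of_mem (mem_fixpt.1 hy).1) (by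
      nth_rewrite 1 [hw]; exact inv_mul_cancel y))
  have hNcard : Nat.card N = 4 * (5 * j) * Nat.card f.range := by
    rw [← hker, ← index_ker, card_mul_index]
  have hn5 := card_sylow_modEq_one 5 G
  rw [P.card_eq_index_normalizer] at hn5
  have hmul := index_mul_card N
  rw [hn, hNcard] at hmul
  change N.index % 5 = 1 % 5 at hn5
  generalize N.index = q at hn5 hmul
  obtain ⟨e, he, he'⟩ := (Nat.dvd_prime_pow Nat.prime_two).1 (show Nat.card f.range ∣ 2 ^ 2 from hrange)
  rw [he'] at hrange1 hmul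
  obtain ⟨t, rfl⟩ := hjodd
  have ht : t ≤ 11 := by omega
  interval_cases e <;> interval_cases t <;> omega

/-- The groups in the dihedral case. -/
theorem classification [IsSimpleGroup G] (hab : ∃ a b : G, a * b ≠ b * a) :
    Nonempty (G ≃* alternatingGroup (Fin 6)) ∨ Nonempty (G ≃* alternatingGroup (Fin 7)) ∨
      ∃ (F : Type) (_ : Field F) (_ : Fintype F), Fintype.card F = 7 ∧
        Nonempty (G ≃* Matrix.ProjectiveSpecialLinearGroup (Fin 2) F) := by
  classical
  cases nonempty_fintype G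
  have hkk : Nat.card (oker ι) = Nat.card (fixpt ι 0) * Nat.card (fixpt ι 1) := by
    have := c.card_oker 0
    rwa [zero_add] at this
  have hkodd := c.card_oker_odd
  by_cases hk1 : Nat.card (oker ι) = 1
  · -- the centralizer is dihedral
    have hbij : Function.Bijective (iotaC c.data) := by
      refine (Nat.bijective_iff_injective_and_card _).2
        ⟨fun a b e => c.data.inj (congrArg Subtype.val e), ?_⟩
      rw [c.card_cJ, hk1, DihedralGroup.nat_card]
      norm_num
    have hperf : commutator G = ⊤ := by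
      refine (IsSimpleGroup.eq_bot_or_eq_top_of_normal _ inferInstance).resolve_left fun e => ?_
      obtain ⟨a, b, hab⟩ := hab
      refine hab (commutatorElement_eq_one_iff_mul_comm.1 ?_)
      rw [← Subgroup.mem_bot, ← e, commutator_def]
      exact commutator_mem_commutator (mem_top a) (mem_top b)
    rcases S0848.result hperf _ c.data.z_order (MulEquiv.ofBijective _ hbij).symm with h | h
    · exact Or.inr (Or.inr ⟨ZMod 7, ZMod.instField 7, inferInstance, ZMod.card 7,
        Classical.Small.simple_168_psl h (ZMod.card 7)⟩)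
    · exact Or.inl (S0497.result h)
  refine Or.inr (Or.inl ?_)
  -- order the two fixed point subgroups
  obtain ⟨ι', c', hK, hcases⟩ : ∃ ι' : DihedralGroup (2 ^ 2) →* G, Cfg S ι' ∧
      Nat.card (oker ι') = Nat.card (oker ι) ∧
      (Nat.card (fixpt ι' 1) = 1 ∨
        (1 < Nat.card (fixpt ι' 0) ∧ Nat.card (fixpt ι' 0) ≤ Nat.card (fixpt ι' 1))) := by
    obtain ⟨ι', c', hK, hfix⟩ := c.exists_swap
    have p0 : 0 < Nat.card (fixpt ι 0) := Nat.card_pos
    have p1 : 0 < Nat.card (fixpt ι 1) := Nat.card_pos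
    have f0 : fixpt ι' 0 = fixpt ι 1 := by rw [hfix, zero_add]
    have f1 : fixpt ι' 1 = fixpt ι 0 := by
      rw [hfix, show (1 : ZMod (2 ^ 2)) + 1 = 0 + 2 from rfl, c.fixpt_add_two]
    rcases (by omega : Nat.card (fixpt ι 1) = 1 ∨ Nat.card (fixpt ι 0) = 1 ∨
        (1 < Nat.card (fixpt ι 0) ∧ Nat.card (fixpt ι 0) ≤ Nat.card (fixpt ι 1)) ∨
        (1 < Nat.card (fixpt ι 1) ∧ Nat.card (fixpt ι 1) ≤ Nat.card (fixpt ι 0))) with h | h | h | h
    · exact ⟨ι, c, rfl, Or.inl h⟩
    · exact ⟨ι', c', by rw [hK], Or.inl (by rw [f1]; exact h)⟩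
    · exact ⟨ι, c, rfl, Or.inr h⟩
    · exact ⟨ι', c', by rw [hK], Or.inr (by rw [f0, f1]; exact h)⟩
  rw [← hK] at hkodd hk1
  clear hK hkk
  obtain ⟨n, A, B, C, hn, D, hchar⟩ := c'.exists_degrees hab
  have hkk : Nat.card (oker ι') = Nat.card (fixpt ι' 0) * Nat.card (fixpt ι' 1) := by
    have := c'.card_oker 0
    rwa [zero_add] at this
  rcases hcases with h1 | ⟨h0, h01⟩
  · have hk2 : 2 ≤ Nat.card (oker ι') := by
      have : 0 < Nat.card (oker ι') := Nat.card_pos
      omega
    have hs : Nat.card (fixpt ι' 0) + Nat.card (fixpt ι' 1) = Nat.card (oker ι') + 1 := by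
      rw [hkk, h1, mul_one]
    rcases D.one_big (by exact_mod_cast hk2) (by exact_mod_cast hkodd)
      (by exact_mod_cast hs) with ⟨e, e'⟩ | ⟨e, e'⟩
    · refine S0984.result ?_
      rw [hn, show Nat.card (oker ι') = 3 by exact_mod_cast e, show n = 105 by exact_mod_cast e']
    · refine absurd ?_ not_false
      have e5 : Nat.card (oker ι') = 5 := by exact_mod_cast e
      exact c'.no_five e5 h1 (by rw [hn, e5, show n = 189 by exact_mod_cast e'])
  · exfalso
    obtain ⟨⟨y, hy⟩, hy1⟩ : ∃ y : fixpt ι' 0, y ≠ 1 := by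
      have : Nontrivial (fixpt ι' 0) := Finite.one_lt_card_iff_nontrivial.1 h0
      exact exists_ne 1
    have hy1' : y ≠ 1 := fun e => hy1 (Subtype.ext e)
    obtain ⟨m, a, b, d, -, -, -, ha, hb, hd, hrel, hcount⟩ := c'.klein_count hy hy1'
    obtain ⟨-, hhi⟩ := klein_factor_bounds ha hb hd hrel
    have hk9 : 9 ≤ Nat.card (oker ι') := by
      rw [hkk] at hkodd ⊢
      obtain ⟨o0, o1⟩ := Nat.odd_mul.1 hkodd
      obtain ⟨i, hi⟩ := o0
      obtain ⟨i', hi'⟩ := o1
      exact Nat.mul_le_mul (show 3 ≤ _ by omega) (show 3 ≤ _ by omega)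
    have hN := c'.class_large hab (mem_fixpt.1 hy).1 hy1' hk9
    have hidx := c'.index_mul_eq (y := y) hn
    set N := (centralizer ({y} : Set G)).index
    set q := Nat.card (centralizer ({y} : Set G))
    set F := 1 + 1 / (a : ℚ) + 1 / b + 1 / d
    have hbound : 3 * (N : ℤ) * (Nat.card (fixpt ι' 1) : ℤ) ^ 2 ≤ 2 * (n : ℤ) := by
      have hidx' : (N : ℚ) * q = 8 * (Nat.card (oker ι') : ℚ) * n := by exact_mod_cast hidx
      have hk : (0 : ℚ) < Nat.card (oker ι') := by exact_mod_cast Nat.card_pos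
      have h1 : (q : ℚ) * F ≤ (q : ℚ) * (8 / 3) := mul_le_mul_of_nonneg_left hhi (Nat.cast_nonneg _)
      have h2 : (N : ℚ) * ((q : ℚ) * F) ≤ N * (q * (8 / 3)) :=
        mul_le_mul_of_nonneg_left h1 (Nat.cast_nonneg _)
      rw [hcount, ← mul_assoc (N : ℚ) (q : ℚ) (8 / 3), hidx'] at h2
      have h3 : 3 * (N : ℚ) * (Nat.card (fixpt ι' 1) : ℚ) ^ 2 ≤ 2 * n := by nlinarith
      exact_mod_cast h3
    obtain ⟨-, hB, -⟩ := D.both_big (by exact_mod_cast hN)
      (by exact_mod_cast (show 0 < Nat.card (fixpt ι' 1) by omega))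
      ⟨by
        have : 0 < Nat.card (fixpt ι' 0) + Nat.card (fixpt ι' 1) := by omega
        exact_mod_cast this, by
        have : Nat.card (fixpt ι' 0) + Nat.card (fixpt ι' 1) ≤ 2 * Nat.card (fixpt ι' 1) := by omega
        exact_mod_cast this⟩ hbound
    obtain ⟨χ, h5, hval⟩ := hchar hB
    let V := dfour c'.data.pos (0 : ZMod (2 ^ 2))
    have : Fintype V := Fintype.ofFinite V
    have hVy : ∀ v : V, ι' v * y = y * ι' v := by
      intro v
      obtain ⟨π, h⟩ := exists_proj c'.data
      refine (c'.commute_iff h hy hy1' (iota_mem c'.data _)).2 ?_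
      rw [h.sec]
      exact v.2
    refine false_of_five χ.2 h5 (dfour_card c'.data.pos 0) (ι'.comp V.subtype) hy1'
      (c'.odd_of_mem (mem_fixpt.1 hy).1) (c'.invert (mem_fixpt.1 hy).1) hVy fun v hv i => ?_
    have hcomm : ι' v * y ^ i = y ^ i * ι' v := ((show Commute _ _ from hVy v).zpow_right i).eq
    refine hval _ _ ?_ (c'.odd_of_mem (zpow_mem (mem_fixpt.1 hy).1 i)) hcomm
    show orderOf (ι' (v : DihedralGroup (2 ^ 2))) = 2
    rw [orderOf_injective ι' c'.data.inj]
    refine orderOf_eq_prime ((pow_two _).trans (dfour_sq c'.data.pos 0 v.2)) fun e => hv (Subtype.ext e)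

end Cfg

end Cfsg.Agent.SmallCent
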