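import Cfsg.Agent.MaxClass.Class
import Cfsg.Agent.TwoTransfer.Basic
import Cfsg.Agent.Classical.SmallSimple
import Cfsg.Agent.S0201
import Cfsg.Agent.SmallCent.Local
import Cfsg.Agent.S0107

/-!
# The Sylow 2-subgroup with a self-centralizing element of order four
-/

set_option autoImplicit false

namespace Cfsg.Agent.SmallCent

open Subgroup

universe u

variable {G : Type u} [Group G] [Finite G] [IsSimpleGroup G]

theorem not_cyclic_sylow_two (hab : ∃ a b : G, a * b ≠ b * a) (h2 : 2 ∣ Nat.card G) (S : Sylow 2 G) :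
    ¬ IsCyclic (S : Subgroup G) := by
  intro hc
  have := Fact.mk Nat.prime_two
  have hG1 : Nat.card G ≠ 1 := fun e => by rw [e] at h2; norm_num at h2
  have hmin : (Nat.card G).minFac = 2 := (Nat.minFac_eq_two_iff _).2 h2
  have hN := IsCyclic.normalizer_le_centralizer hmin (P := S) hc
  have hcomp := MonoidHom.ker_transferSylow_isComplement' S hN
  rcases IsSimpleGroup.eq_bot_or_eq_top_of_normal (MonoidHom.transferSylow S hN).ker inferInstance
    with h | h
  · rw [h, isComplement'_bot_left] at hcomp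
    obtain ⟨a, b, hab⟩ := hab
    obtain ⟨g, hg⟩ := hc.exists_generator
    obtain ⟨i, hi⟩ := mem_zpowers_iff.1 (hg ⟨a, hcomp ▸ mem_top a⟩)
    obtain ⟨j, hj⟩ := mem_zpowers_iff.1 (hg ⟨b, hcomp ▸ mem_top b⟩)
    refine hab ?_
    have hi' := congrArg Subtype.val hi
    have hj' := congrArg Subtype.val hj
    simp only [SubgroupClass.coe_zpow] at hi' hj'
    rw [← hi', ← hj', ← zpow_add, ← zpow_add, add_comm]
  · rw [h, isComplement'_top_left] at hcomp
    exact (S.ne_bot_of_dvd_card h2) hcomp

omit [Finite G] in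
theorem no_index_two (hab : ∃ a b : G, a * b ≠ b * a) {N : Subgroup G} [N.Normal]
    (hN : N.index = 2) : False := by
  rcases IsSimpleGroup.eq_bot_or_eq_top_of_normal N inferInstance with h | h
  · rw [h, index_bot] at hN
    have : Finite G := Nat.finite_of_card_ne_zero (by omega)
    have := isCyclic_of_prime_card (p := 2) (hp := ⟨Nat.prime_two⟩) hN
    obtain ⟨a, b, hab⟩ := hab
    exact hab (IsCyclic.commGroup.mul_comm a b)
  · rw [h, index_top] at hN
    omega

omit [IsSimpleGroup G] in
theorem card_centralizer_conj (g x : G) :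
    Nat.card (centralizer ({g * x * g⁻¹} : Set G)) = Nat.card (centralizer ({x} : Set G)) := by
  refine Nat.card_congr
    { toFun := fun c => ⟨g⁻¹ * c * g, mem_centralizer_singleton_iff.2 ?_⟩
      invFun := fun c => ⟨g * c * g⁻¹, mem_centralizer_singleton_iff.2 ?_⟩
      left_inv := fun c => Subtype.ext (show g * (g⁻¹ * c * g) * g⁻¹ = c by group)
      right_inv := fun c => Subtype.ext (show g⁻¹ * (g * c * g⁻¹) * g = c by group) }
  · calc g⁻¹ * c * g * x = g⁻¹ * ((c : G) * (g * x * g⁻¹)) * g := by group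
      _ = g⁻¹ * ((g * x * g⁻¹) * c) * g := by rw [mem_centralizer_singleton_iff.1 c.2]
      _ = x * (g⁻¹ * c * g) := by group
  · calc g * c * g⁻¹ * (g * x * g⁻¹) = g * ((c : G) * x) * g⁻¹ := by group
      _ = g * (x * c) * g⁻¹ := by rw [mem_centralizer_singleton_iff.1 c.2]
      _ = g * x * g⁻¹ * (g * c * g⁻¹) := by group

/-- The Sylow 2-subgroup is not semidihedral. -/
theorem not_semidihedral (hab : ∃ a b : G, a * b ≠ b * a) (S : Sylow 2 G) {w : G}
    (hwS : w ∈ S) (hw : orderOf w = 4) (hC : Nat.card (centralizer ({w} : Set G)) = 4) {k : ℕ}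
    (hcard : Nat.card (S : Subgroup G) = 2 ^ (k + 4)) {a b : (S : Subgroup G)}
    (ha : orderOf a = 2 ^ (k + 3)) (hb : orderOf b = 2)
    (hrel : b * a * b⁻¹ = a ^ (2 ^ (k + 2) - 1)) : False := by
  classical
  set r : ℤ := ((2 ^ (k + 2) - 1 : ℕ) : ℤ) with hr
  have hrel' : b * a * b⁻¹ = a ^ r := by rw [hr, zpow_natCast]; exact hrel
  have hbb : b * b = 1 := by
    have h := pow_orderOf_eq_one b
    rwa [hb, pow_two] at h
  have hbinv : b⁻¹ = b := inv_eq_of_mul_eq_one_right hbb
  have hr1 : r + 1 = 2 ^ (k + 2) := by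
    rw [hr, Nat.cast_sub Nat.one_le_two_pow]; push_cast; ring
  have hzi : ∀ i : ℤ, a ^ i = 1 ↔ (2 : ℤ) ^ (k + 3) ∣ i := fun i => by
    rw [← orderOf_dvd_iff_zpow_eq_one, ha]; push_cast; rfl
  have hi2 : (zpowers a).index = 2 := by
    have h1 := (zpowers a).card_mul_index
    rw [Nat.card_zpowers, ha, hcard, pow_succ _ (k + 3)] at h1
    exact Nat.eq_of_mul_eq_mul_left (Nat.two_pow_pos _) h1
  have hbA : b ∉ zpowers a := by
    intro hbA
    obtain ⟨i, hi⟩ := mem_zpowers_iff.1 hbA
    have h1 : a ^ r = a ^ (1 : ℤ) := by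
      rw [← hrel', ← hi, zpow_one]
      group
    rw [← mul_inv_eq_one, ← zpow_neg, ← zpow_add] at h1
    have h2 := (hzi _).1 h1
    have h4 : (1 : ℤ) ≤ 2 ^ k := one_le_pow₀ (by norm_num)
    have h5 : (2 : ℤ) ^ (k + 2) = 4 * 2 ^ k := by ring
    have h6 : (2 : ℤ) ^ (k + 3) = 8 * 2 ^ k := by ring
    have h3 := Int.le_of_dvd (by omega) h2
    omega
  have hswap : ∀ i : ℤ, a ^ i * b = b * a ^ (r * i) := fun i => by
    rw [← MaxClass.conj_zpow_of_eq hrel' i, hbinv, mul_assoc b, ← mul_assoc b, hbb, one_mul]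
  have heven : ∀ i j : ℤ, a ^ i = a ^ (2 * j) → Even i := by
    intro i j he
    rw [← mul_inv_eq_one, ← zpow_neg, ← zpow_add, hzi] at he
    obtain ⟨q, hq⟩ := he
    exact ⟨j + 2 ^ (k + 2) * q, by linear_combination hq⟩
  let D : Subgroup (S : Subgroup G) :=
    { carrier := {x | ∃ i : ℤ, x = a ^ (2 * i) ∨ x = b * a ^ (2 * i)}
      one_mem' := ⟨0, Or.inl (by simp)⟩
      mul_mem' := by
        rintro _ _ ⟨i, rfl | rfl⟩ ⟨j, rfl | rfl⟩
        · exact ⟨i + j, Or.inl (by rw [← zpow_add, mul_add])⟩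
        · exact ⟨r * i + j, Or.inr (by rw [← mul_assoc, hswap, mul_assoc, ← zpow_add]; ring_nf)⟩
        · exact ⟨i + j, Or.inr (by rw [mul_assoc, ← zpow_add, mul_add])⟩
        · exact ⟨r * i + j, Or.inl (by
            rw [mul_assoc, ← mul_assoc (a ^ (2 * i)), hswap, ← mul_assoc, ← mul_assoc, hbb, one_mul,
              ← zpow_add]; ring_nf)⟩
      inv_mem' := by
        rintro _ ⟨i, rfl | rfl⟩
        · exact ⟨-i, Or.inl (by rw [← zpow_neg, mul_neg])⟩
        · exact ⟨-(r * i), Or.inr (by
            rw [mul_inv_rev, hbinv, ← zpow_neg, hswap]; ring_nf)⟩ }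
  have hmem : ∀ x, x ∈ D ↔ ∃ i : ℤ, x = a ^ (2 * i) ∨ x = b * a ^ (2 * i) := fun _ => Iff.rfl
  have ha_iff : ∀ i : ℤ, a ^ i ∈ D ↔ Even i := by
    intro i
    rw [hmem]
    constructor
    · rintro ⟨j, h | h⟩
      · exact heven i j h
      · exact absurd (mem_zpowers_iff.2 ⟨i - 2 * j, by
          rw [zpow_sub, h, mul_inv_cancel_right]⟩) hbA
    · rintro ⟨j, rfl⟩
      exact ⟨j, Or.inl (by rw [two_mul])⟩
  have hb_iff : ∀ i : ℤ, b * a ^ i ∈ D ↔ Even i := by
    intro i
    rw [hmem]
    constructor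
    · rintro ⟨j, h | h⟩
      · exact absurd (mem_zpowers_iff.2 ⟨2 * j - i, by
          rw [zpow_sub, ← h, mul_inv_cancel_right]⟩) hbA
      · exact heven i j (mul_left_cancel h)
    · rintro ⟨j, rfl⟩
      exact ⟨j, Or.inr (by rw [two_mul])⟩
  have hcover : ∀ x : (S : Subgroup G), ∃ i : ℤ, x = a ^ i ∨ x = b * a ^ i := by
    intro x
    rcases MaxClass.cover_of_index_two hi2 hbA x with h | h
    · obtain ⟨i, hi⟩ := mem_zpowers_iff.1 h
      exact ⟨i, Or.inl hi.symm⟩
    · obtain ⟨i, hi⟩ := mem_zpowers_iff.1 h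
      exact ⟨i, Or.inr (by rw [hi, mul_inv_cancel_left])⟩
  have hD2 : D.index = 2 := by
    refine index_eq_two_iff.2 ⟨a, fun x => ?_⟩
    obtain ⟨i, rfl | rfl⟩ := hcover x
    · rw [← zpow_add_one, ha_iff, ha_iff]
      rcases Int.even_or_odd i with h | h
      · exact Or.inr ⟨h, by simpa [Int.even_add_one] using h⟩
      · exact Or.inl ⟨by simpa [Int.even_add_one] using Int.not_even_iff_odd.2 h,
          Int.not_even_iff_odd.2 h⟩
    · rw [mul_assoc, ← zpow_add_one, hb_iff, hb_iff]
      rcases Int.even_or_odd i with h | h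
      · exact Or.inr ⟨h, by simpa [Int.even_add_one] using h⟩
      · exact Or.inl ⟨by simpa [Int.even_add_one] using Int.not_even_iff_odd.2 h,
          Int.not_even_iff_odd.2 h⟩
  have hinvol : ∀ x : (S : Subgroup G), x * x = 1 → x ∈ D := by
    intro x hx
    obtain ⟨i, rfl | rfl⟩ := hcover x
    · rw [← zpow_add, hzi] at hx
      obtain ⟨q, hq⟩ := hx
      refine (ha_iff i).2 ?_
      have : i = 2 * (2 ^ (k + 1) * q) := by
        have h1 : (2 : ℤ) ^ (k + 3) = 4 * 2 ^ (k + 1) := by ring
        rw [h1] at hq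
        linarith
      exact ⟨2 ^ (k + 1) * q, by linarith⟩
    · rw [mul_assoc, ← mul_assoc (a ^ i), hswap, ← mul_assoc, ← mul_assoc, hbb, one_mul, ← zpow_add,
        show r * i + i = 2 ^ (k + 2) * i by rw [← hr1]; ring, hzi, pow_succ _ (k + 2),
        mul_dvd_mul_iff_left (pow_ne_zero _ (two_ne_zero))] at hx
      exact (hb_iff i).2 (even_iff_two_dvd.2 hx)
  let M := D.map (S : Subgroup G).subtype
  have hM : M.relIndex (S : Subgroup G) = 2 := by
    show (M.subgroupOf (S : Subgroup G)).index = 2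
    rw [subgroupOf, comap_map_eq_self_of_injective (subtype_injective _), hD2]
  obtain ⟨N, hN, hN2, -⟩ := TwoTransfer.exists_index_two S M hM w hwS
    (fun j g hj hg => ⟨⟨_, hg⟩, hinvol _ (Subtype.ext (by
      show g⁻¹ * w ^ 2 ^ j * g * (g⁻¹ * w ^ 2 ^ j * g) = 1
      calc g⁻¹ * w ^ 2 ^ j * g * (g⁻¹ * w ^ 2 ^ j * g) = g⁻¹ * (w ^ 2 ^ j * w ^ 2 ^ j) * g := by group
        _ = 1 := by
          obtain ⟨i, rfl⟩ : ∃ i, j = i + 1 := ⟨j - 1, by omega⟩
          rw [← pow_add, show 2 ^ (i + 1) + 2 ^ (i + 1) = 4 * 2 ^ i by ring, pow_mul, ← hw,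
            pow_orderOf_eq_one, one_pow, mul_one, inv_mul_cancel])), rfl⟩)
    (fun g hg hgM => by
      obtain ⟨u, hu, hu'⟩ := hgM
      have hu' : (u : G) = g⁻¹ * w * g := hu'
      have ho : orderOf u = 4 := by
        have := MulEquiv.orderOf_eq (MulAut.conj g⁻¹) w
        rw [MulAut.conj_apply, inv_inv, hw] at this
        rwa [← Subgroup.orderOf_coe, hu']
      obtain ⟨i, rfl | rfl⟩ := (hmem u).1 hu
      · have hCu := card_centralizer_conj g⁻¹ w
        rw [inv_inv, hC, ← hu'] at hCu
        have hle : zpowers (a : G) ≤ centralizer ({((a ^ (2 * i) : (S : Subgroup G)) : G)} : Set G) := by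
          rw [zpowers_le, mem_centralizer_singleton_iff]
          exact congrArg Subtype.val (Commute.self_zpow a (2 * i)).eq
        have h8 := card_le_of_le hle
        rw [Nat.card_zpowers, Subgroup.orderOf_coe, ha, hCu] at h8
        have : 2 ^ 3 ≤ 2 ^ (k + 3) := Nat.pow_le_pow_right two_pos (by omega)
        omega
      · have hsq : (b * a ^ (2 * i)) ^ 2 = 1 := by
          rw [pow_two, mul_assoc, ← mul_assoc (a ^ (2 * i)), hswap, ← mul_assoc, ← mul_assoc, hbb,
            one_mul, ← zpow_add, hzi]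
          exact ⟨i, by
            rw [show r * (2 * i) + 2 * i = (r + 1) * 2 * i by ring, hr1]; ring⟩
        have := Nat.le_of_dvd two_pos (orderOf_dvd_of_pow_eq_one hsq)
        omega)
  exact no_index_two hab hN2

open DihedralGroup Cfsg.Agent.Invol in
/-- A self-centralizing element of order four forces dihedral Sylow subgroups of order eight. -/
theorem exists_cfg (hab : ∃ a b : G, a * b ≠ b * a) {w : G} (hw : orderOf w = 4)
    (hC : Nat.card (centralizer ({w} : Set G)) = 4) :
    ∃ (S : Sylow 2 G) (ι : DihedralGroup (2 ^ 2) →* G), Cfg S ι := by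
  classical
  have := Fact.mk Nat.prime_two
  have h2 : 2 ∣ Nat.card G := dvd_trans ⟨2, hw⟩ (orderOf_dvd_natCard w)
  obtain ⟨S, hS⟩ := (IsPGroup.of_card (p := 2) (n := 2)
    (show Nat.card (zpowers w) = 2 ^ 2 by rw [Nat.card_zpowers, hw]; norm_num)).exists_le_sylow
  have hwS : w ∈ (S : Subgroup G) := hS (mem_zpowers w)
  have hzC : zpowers w = centralizer ({w} : Set G) := by
    refine eq_of_le_of_card_ge (zpowers_le.2 (mem_centralizer_singleton_iff.2 rfl)) ?_
    rw [hC, Nat.card_zpowers, hw]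
  set x : (S : Subgroup G) := ⟨w, hwS⟩
  have hx : Nat.card (centralizer ({x} : Set (S : Subgroup G))) = 4 := by
    rw [← hC]
    refine Nat.card_congr
      { toFun := fun c => ⟨(c.1 : G), mem_centralizer_singleton_iff.2
          (congrArg Subtype.val (mem_centralizer_singleton_iff.1 c.2))⟩
        invFun := fun c => ⟨⟨(c : G), hS (hzC.symm.le c.2)⟩,
          mem_centralizer_singleton_iff.2 (Subtype.ext (mem_centralizer_singleton_iff.1 c.2))⟩
        left_inv := fun _ => rfl
        right_inv := fun _ => rfl }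
  have hwx : orderOf x = 4 := by rw [← Subgroup.orderOf_coe]; exact hw
  rcases MaxClass.mc_of_centralizer S.2 x hx with h4 | ⟨k, ⟨e⟩⟩ | ⟨k, hc, a, b, ha, hb, he⟩ | ⟨k, ⟨e⟩⟩
  · refine absurd ?_ (not_cyclic_sylow_two hab h2 S)
    exact isCyclic_of_orderOf_eq_card x (by rw [hwx, h4])
  · -- dihedral
    have hk : k = 0 := by
      by_contra hk
      rcases hd : e x with i | i
      · have hle : zpowers (r 1 : DihedralGroup (2 ^ (k + 2))) ≤ centralizer ({e x} : Set _) := by
          rw [zpowers_le, mem_centralizer_singleton_iff, hd, r_mul_r, r_mul_r]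
          exact congrArg _ (add_comm _ _)
        have h1 := card_le_of_le hle
        rw [Nat.card_zpowers, orderOf_r_one] at h1
        have h3 : Nat.card (centralizer ({e x} : Set (DihedralGroup (2 ^ (k + 2))))) = 4 := by
          rw [← hx]
          refine (Nat.card_congr
            { toFun := fun c => ⟨e c.1, mem_centralizer_singleton_iff.2 (by
                rw [← map_mul, ← map_mul, mem_centralizer_singleton_iff.1 c.2])⟩
              invFun := fun c => ⟨e.symm c.1, mem_centralizer_singleton_iff.2 (e.injective (by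
                rw [map_mul, map_mul, e.apply_symm_apply, mem_centralizer_singleton_iff.1 c.2]))⟩
              left_inv := fun c => Subtype.ext (e.symm_apply_apply c.1)
              right_inv := fun c => Subtype.ext (e.apply_symm_apply c.1) }).symm
        have : 2 ^ 3 ≤ 2 ^ (k + 2) := Nat.pow_le_pow_right two_pos (by omega)
        omega
      · have := e.orderOf_eq x
        rw [hd, orderOf_sr, hwx] at this
        omega
    subst hk
    obtain ⟨i, hi⟩ : ∃ i, e x = r i ∧ (i = 1 ∨ i = 3) := by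
      have key : ∀ d : DihedralGroup (2 ^ (0 + 2)), d ^ 2 ≠ 1 → ∃ i, d = r i ∧ (i = 1 ∨ i = 3) := by
        decide
      refine key _ fun h1 => ?_
      have := Nat.le_of_dvd two_pos (orderOf_dvd_of_pow_eq_one h1)
      rw [e.orderOf_eq, hwx] at this
      omega
    let ι : DihedralGroup (2 ^ 2) →* G := (S : Subgroup G).subtype.comp e.symm.toMonoidHom
    have hD : DData S 2 ι := by
      refine ⟨by norm_num, (subtype_injective _).comp e.symm.injective, ?_⟩
      rw [MonoidHom.range_comp, MonoidHom.range_eq_top.2 e.symm.surjective, ← MonoidHom.range_eq_map,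
        range_subtype]
    have hwi : ι (r i) = w := by
      show ((e.symm (r i) : (S : Subgroup G)) : G) = w
      rw [← hi.1, e.symm_apply_apply]
    refine ⟨S, ι, hD, ?_, fun y z hy hz => ?_⟩
    · rcases hi.2 with rfl | rfl
      · rw [hwi, hC]
      · rw [show (r 1 : DihedralGroup (2 ^ 2)) = (r 3)⁻¹ from rfl, map_inv]
        have : ι (r 3) = w := hwi
        rw [this, ← hC]
        congr 2
        ext y
        simp only [mem_centralizer_singleton_iff]
        exact ⟨fun e' => Commute.inv_right_iff.1 e', fun e' => Commute.inv_right e'⟩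
    · have hres : Cfsg.pResidual 2 G = ⊤ := by
        refine (IsSimpleGroup.eq_bot_or_eq_top_of_normal _ inferInstance).resolve_left fun hbot => ?_
        obtain ⟨j, hj⟩ := Fusion.index_pResidual_eq_pow (p := 2) (G := G)
        rw [hbot, index_bot] at hj
        have hG2 : IsPGroup 2 G := IsPGroup.of_card hj
        have hnt := hG2.center_nontrivial
        rcases IsSimpleGroup.eq_bot_or_eq_top_of_normal (center G) inferInstance with h | h
        · exact (Subgroup.nontrivial_iff_ne_bot _).1 hnt h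
        · obtain ⟨p, q, hpq⟩ := hab
          exact hpq (mem_center_iff.1 (h ▸ mem_top q : q ∈ center G) p)
      obtain ⟨g, hg⟩ := S0107.result S 2 le_rfl ⟨e⟩ hres y z hy hz
      exact isConj_iff.2 ⟨g, hg⟩
  · exact (not_semidihedral hab S hwS hw hC hc ha hb he).elim
  · exfalso
    have hcen := S0201.result S k e fun N hN hodd => by
      rcases IsSimpleGroup.eq_bot_or_eq_top_of_normal N hN with h | h
      · exact h
      · rw [h, card_top] at hodd
        exact absurd h2 hodd.not_two_dvd_nat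
    rcases IsSimpleGroup.eq_bot_or_eq_top_of_normal (center G) inferInstance with h | h
    · rw [h, card_bot] at hcen
      omega
    · obtain ⟨p, q, hpq⟩ := hab
      exact hpq (mem_center_iff.1 (h ▸ mem_top q : q ∈ center G) p)

end Cfsg.Agent.SmallCent
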