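import Mathlib

/-!
# Arithmetic for groups with a self-centralizing element of order four

`A`, `B`, `C` are the signed degrees of the principal 2-block, `s` the sum of the orders of the
two fixed point subgroups and `8 * k * n` the group order.
-/

set_option autoImplicit false

namespace Cfsg.Agent.SmallCent

/-- The relations between the signed degrees. -/
structure DegreeData (k s n A B C : ℤ) : Prop where
  rel : 1 + A + B + C = 0
  modA : A % 4 = 1
  modB : B % 4 = 3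
  modC : C % 4 = 3
  neA : A ≠ 1
  neB : B ≠ -1
  neC : C ≠ -1
  kpos : 0 < k
  npos : 0 < n
  odd : Odd n
  seven : Even s
  am_gm : 4 * k ≤ s ^ 2
  eqI : n * (A + 1) * (B * C - A) = 32 * k * A * (B * C)
  eqII : n * (A - 1) ^ 2 = 8 * A * (A + 1) * s ^ 2

namespace DegreeData

variable {k s n A B C : ℤ} (h : DegreeData k s n A B C)
include h

theorem exists_quarter : ∃ a : ℤ, A = 4 * a + 1 ∧ a ≠ 0 ∧ Even a ∧ a ∣ s ∧
    n * a ^ 2 = s ^ 2 * ((4 * a + 1) * (2 * a + 1)) := by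
  obtain ⟨a, ha⟩ : ∃ a, A = 4 * a + 1 := ⟨A / 4, by have := h.modA; omega⟩
  have hne : a ≠ 0 := fun e => h.neA (by rw [ha, e]; ring)
  have heq : n * a ^ 2 = s ^ 2 * ((4 * a + 1) * (2 * a + 1)) := by
    have := h.eqII
    rw [ha] at this
    linarith
  have heven : Even a := by
    obtain ⟨t, ht⟩ := h.seven
    have h2 : Even (n * a ^ 2) := ⟨2 * t ^ 2 * ((4 * a + 1) * (2 * a + 1)), by rw [heq, ht]; ring⟩
    rcases Int.even_mul.1 h2 with h3 | h3
    · exact absurd h3 (Int.not_even_iff_odd.2 h.odd)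
    · exact (Int.even_pow.1 h3).1
  refine ⟨a, ha, hne, heven, ?_, heq⟩
  have hcop : IsCoprime a ((4 * a + 1) * (2 * a + 1)) := ⟨-(8 * a + 6), 1, by ring⟩
  have hd : a ^ 2 ∣ s ^ 2 := (hcop.pow_left (m := 2)).dvd_of_dvd_mul_right ⟨n, by rw [← heq]; ring⟩
  exact (Int.pow_dvd_pow_iff two_ne_zero).1 hd

theorem main_eq : s ^ 2 * (A + 1) ^ 2 * (B * C - A) = 4 * k * (B * C) * (A - 1) ^ 2 := by
  have hA : (8 : ℤ) * A ≠ 0 := by have := h.modA; omega
  refine mul_left_cancel₀ hA ?_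
  have h1 := congrArg (· * (A - 1) ^ 2) h.eqI
  have h2 := congrArg (· * ((A + 1) * (B * C - A))) h.eqII
  linarith

theorem phi_bound : 9 * s ^ 2 < 80 * k := by
  obtain ⟨a, ha, ha0, ⟨a', ha'⟩, -, -⟩ := h.exists_quarter
  have hk := h.kpos
  have hA : A ≤ -7 ∨ 9 ≤ A := by omega
  have hB : B ≤ -5 ∨ 3 ≤ B := by have := h.modB; have := h.neB; omega
  have hC : C ≤ -5 ∨ 3 ≤ C := by have := h.modC; have := h.neC; omega
  have hrel := h.rel
  have he := h.main_eq
  rw [show B * C - A = (B + 1) * (C + 1) by linear_combination -hrel] at he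
  have hA1 : 0 < (A + 1) ^ 2 := pow_two_pos_of_ne_zero (by omega)
  -- the two products have the same sign
  obtain ⟨P, Q, hP, hQ, heq, hb⟩ : ∃ P Q : ℤ, 0 < P ∧ 0 < Q ∧
      s ^ 2 * (A + 1) ^ 2 * P = 4 * k * Q * (A - 1) ^ 2 ∧
      9 * (Q * (A - 1) ^ 2) < 20 * (P * (A + 1) ^ 2) := by
    have hA9 : A ≤ -7 → 9 * (A - 1) ^ 2 ≤ 16 * (A + 1) ^ 2 := fun h' => by nlinarith
    have hA9' : 9 ≤ A → (A - 1) ^ 2 ≤ (A + 1) ^ 2 := fun h' => by nlinarith
    rcases hB with hb | hb <;> rcases hC with hc | hc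
    · have hA' : 9 ≤ A := by omega
      have hQ : 0 < B * C := by nlinarith
      refine ⟨(B + 1) * (C + 1), B * C, by nlinarith, hQ, he, ?_⟩
      have h16 : 16 * (B * C) ≤ 25 * ((B + 1) * (C + 1)) := by nlinarith
      have := hA9' hA'
      nlinarith [mul_le_mul_of_nonneg_left this hQ.le]
    · have hQ : 0 < -(B * C) := by nlinarith
      refine ⟨-((B + 1) * (C + 1)), -(B * C), by nlinarith, hQ,
        by linear_combination -he, ?_⟩
      have h4 : 4 * (-(B * C)) < 5 * (-((B + 1) * (C + 1))) := by nlinarith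
      rcases hA with h' | h'
      · nlinarith [mul_le_mul_of_nonneg_left (hA9 h') hQ.le]
      · nlinarith [mul_le_mul_of_nonneg_left (hA9' h') hQ.le]
    · have hQ : 0 < -(B * C) := by nlinarith
      refine ⟨-((B + 1) * (C + 1)), -(B * C), by nlinarith, hQ,
        by linear_combination -he, ?_⟩
      have h4 : 4 * (-(B * C)) < 5 * (-((B + 1) * (C + 1))) := by nlinarith
      rcases hA with h' | h'
      · nlinarith [mul_le_mul_of_nonneg_left (hA9 h') hQ.le]
      · nlinarith [mul_le_mul_of_nonneg_left (hA9' h') hQ.le]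
    · have hA' : A ≤ -7 := by omega
      have hQ : 0 < B * C := by nlinarith
      refine ⟨(B + 1) * (C + 1), B * C, by nlinarith, hQ, he, ?_⟩
      nlinarith [mul_le_mul_of_nonneg_left (hA9 hA') hQ.le]
  by_contra hlt
  nlinarith [mul_le_mul_of_nonneg_right (not_lt.1 hlt) (mul_pos hP hA1).le,
    mul_lt_mul_of_pos_left hb hk]

/-- The case of a fixed point free involution. -/
theorem one_big (hk : 2 ≤ k) (hkodd : Odd k) (hs : s = k + 1) :
    (k = 3 ∧ n = 105) ∨ (k = 5 ∧ n = 189) := by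
  have hb := h.phi_bound
  rw [hs] at hb
  have hk6 : k ≤ 6 := by nlinarith
  obtain ⟨t, ht⟩ := hkodd
  obtain ⟨a, ha, ha0, ⟨a', ha'⟩, hdvd, heq⟩ := h.exists_quarter
  have he := h.main_eq
  have hrel := h.rel
  obtain ⟨p, hp⟩ : ∃ p, B * C = p := ⟨_, rfl⟩
  rw [hp, ha, hs] at he
  have ha1 : a ≤ k + 1 := Int.le_of_dvd (by omega) (hs ▸ hdvd)
  have ha2 : -a ≤ k + 1 := Int.le_of_dvd (by omega) (neg_dvd.2 (hs ▸ hdvd))
  obtain rfl | rfl : t = 1 ∨ t = 2 := by omega
  · obtain rfl : k = 3 := by omega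
    subst hs
    have ha6 : -2 ≤ a' ∧ a' ≤ 2 := by omega
    obtain ⟨l, u⟩ := ha6
    interval_cases a' <;> subst ha' <;> (try norm_num at he) <;> (try norm_num at heq) <;> first
      | omega
      | (exfalso; obtain rfl : p = 21 := by omega
         obtain rfl : C = 6 - B := by omega
         nlinarith [sq_nonneg (B - 3)])
  · obtain rfl : k = 5 := by omega
    subst hs
    have ha6 : -3 ≤ a' ∧ a' ≤ 3 := by omega
    obtain ⟨l, u⟩ := ha6
    interval_cases a' <;> subst ha' <;> (try norm_num at he) <;> (try norm_num at heq) <;> (try norm_num at hdvd) <;> omega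

/-- The signed degrees are `9, -5, -5` when the class of an element of `K` is large. -/
theorem both_big {N k₂ : ℤ} (hN : 26 ≤ N) (hk₂ : 0 < k₂) (hs : 0 < s ∧ s ≤ 2 * k₂)
    (hn : 3 * N * k₂ ^ 2 ≤ 2 * n) : A = 9 ∧ B = -5 ∧ C = -5 := by
  obtain ⟨a, ha, ha0, ⟨a', ha'⟩, -, heq⟩ := h.exists_quarter
  have hP : 0 ≤ (4 * a + 1) * (2 * a + 1) := by
    have h1 : 0 ≤ n * a ^ 2 := mul_nonneg h.npos.le (sq_nonneg a)
    rw [heq] at h1
    exact nonneg_of_mul_nonneg_right h1 (pow_pos hs.1 2)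
  have hs2 : s ^ 2 ≤ 4 * k₂ ^ 2 := by nlinarith [hs.1, hs.2]
  have h1 : 3 * N * k₂ ^ 2 * a ^ 2 ≤ 8 * k₂ ^ 2 * ((4 * a + 1) * (2 * a + 1)) := by
    nlinarith [mul_le_mul_of_nonneg_right hn (sq_nonneg a),
      mul_le_mul_of_nonneg_right hs2 hP]
  have h2 : 78 * a ^ 2 ≤ 8 * ((4 * a + 1) * (2 * a + 1)) := by
    nlinarith [mul_le_mul_of_nonneg_right hN (mul_nonneg (sq_nonneg a) (sq_nonneg k₂)),
      mul_pos hk₂ hk₂]
  have h3 : 0 ≤ a ∧ a ≤ 3 := ⟨by nlinarith, by nlinarith⟩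
  have hA : A = 9 := by omega
  refine ⟨hA, ?_⟩
  have hk := h.kpos
  have hmain := h.main_eq
  rw [hA] at hmain
  have hp : 0 < B * C := by
    by_contra hle
    nlinarith [mul_le_mul_of_nonneg_right h.am_gm (show (0 : ℤ) ≤ -(B * C) by omega)]
  have hB := h.modB
  have hC := h.modC
  have hrel := h.rel
  rcases mul_pos_iff.1 hp with ⟨hb, hc⟩ | ⟨hb, hc⟩
  · omega
  · have := h.neB
    have := h.neC
    omega

end DegreeData

/-- The factor in the order formula for a Klein four Sylow subgroup. -/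
theorem klein_factor_bounds {a b c : ℤ} (ha : a % 4 = 1) (hb : b % 4 = 1) (hc : c % 4 = 1)
    (hrel : 1 + a + b + c = 0) :
    1 / 3 ≤ 1 + 1 / (a : ℚ) + 1 / b + 1 / c ∧ 1 + 1 / (a : ℚ) + 1 / b + 1 / c ≤ 8 / 3 := by
  have key : ∀ x : ℤ, x % 4 = 1 → (x = 1 ∧ 1 / (x : ℚ) = 1) ∨ (5 ≤ x ∧ 0 < 1 / (x : ℚ) ∧ 1 / (x : ℚ) ≤ 1 / 5) ∨
      (x ≤ -3 ∧ -(1 / 3) ≤ 1 / (x : ℚ) ∧ 1 / (x : ℚ) < 0) := by
    intro x hx
    rcases (by omega : x = 1 ∨ 5 ≤ x ∨ x ≤ -3) with rfl | h | h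
    · exact Or.inl ⟨rfl, by norm_num⟩
    · have h' : (5 : ℚ) ≤ x := by exact_mod_cast h
      exact Or.inr (Or.inl ⟨h, by positivity, one_div_le_one_div_of_le (by norm_num) h'⟩)
    · have h' : (x : ℚ) ≤ -3 := by exact_mod_cast h
      refine Or.inr (Or.inr ⟨h, ?_, one_div_neg.2 (by linarith)⟩)
      have h3 := one_div_le_one_div_of_le (by norm_num : (0 : ℚ) < 3) (le_neg.2 h')
      rw [one_div_neg_eq_neg_one_div] at h3
      linarith
  rcases key a ha with ⟨a1, qa⟩ | ⟨a1, qa, qa'⟩ | ⟨a1, qa, qa'⟩ <;>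
    rcases key b hb with ⟨b1, qb⟩ | ⟨b1, qb, qb'⟩ | ⟨b1, qb, qb'⟩ <;>
      rcases key c hc with ⟨c1, qc⟩ | ⟨c1, qc, qc'⟩ | ⟨c1, qc, qc'⟩ <;>
        first
          | (constructor <;> linarith)
          | omega
          | (obtain rfl : a = -3 := by omega
             rw [qb, qc]; norm_num)
          | (obtain rfl : b = -3 := by omega
             rw [qa, qc]; norm_num)
          | (obtain rfl : c = -3 := by omega
             rw [qa, qb]; norm_num)

theorem nine_aux {a b : ℤ} (hba : b ≤ a) (ha : a ≤ -3) (ha4 : a % 4 = 1) (hb4 : b % 4 = 1)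
    (h : 9 * (a * b + (a + b) * (-1 - a - b)) + a * b * (-1 - a - b) = 0) : False := by
  have h1 : -18 < a := by
    by_contra hle
    nlinarith [mul_le_mul_of_nonpos_left (not_lt.1 hle) (show b ≤ 0 by omega)]
  interval_cases a <;> first | omega | skip
  all_goals
    have hb1 : -60 ≤ b := by nlinarith
    interval_cases b <;> omega

theorem two_pos_aux {u v : ℤ} (hu : 1 ≤ u) (hv : 1 ≤ v) :
    9 * (u * v + (u + v) * (-1 - u - v)) + u * v * (-1 - u - v) < 0 := by
  nlinarith [mul_pos (show (0 : ℤ) < u by omega) (show (0 : ℤ) < v by omega)]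

/-- The factor `8 / 9` does not occur. -/
theorem klein_factor_ne_eight_ninths {a b c : ℤ} (ha : a % 4 = 1) (hb : b % 4 = 1) (hc : c % 4 = 1)
    (hrel : 1 + a + b + c = 0) : 1 + 1 / (a : ℚ) + 1 / b + 1 / c ≠ 8 / 9 := by
  intro heq
  have ha0 : (a : ℚ) ≠ 0 := Int.cast_ne_zero.2 (by omega)
  have hb0 : (b : ℚ) ≠ 0 := Int.cast_ne_zero.2 (by omega)
  have hc0 : (c : ℚ) ≠ 0 := Int.cast_ne_zero.2 (by omega)
  have h0 : 9 * (a * b + (a + b) * c) + a * b * c = 0 := by
    field_simp at heq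
    have : ((9 * (a * b + (a + b) * c) + a * b * c : ℤ) : ℚ) = ((0 : ℤ) : ℚ) := by
      push_cast; linarith
    exact_mod_cast this
  obtain rfl : c = -1 - a - b := by omega
  rcases (by omega : a ≤ -3 ∨ 1 ≤ a) with a1 | a1 <;>
    rcases (by omega : b ≤ -3 ∨ 1 ≤ b) with b1 | b1
  · rcases le_total b a with h | h
    · exact nine_aux h a1 ha hb h0
    · exact nine_aux h b1 hb ha (by linarith)
  · rcases (by omega : -1 - a - b ≤ -3 ∨ 1 ≤ -1 - a - b) with c1 | c1
    · rcases le_total (-1 - a - b) a with h | h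
      · exact nine_aux h a1 ha hc (by linarith)
      · exact nine_aux h c1 hc ha (by linarith)
    · linarith [two_pos_aux b1 c1]
  · rcases (by omega : -1 - a - b ≤ -3 ∨ 1 ≤ -1 - a - b) with c1 | c1
    · rcases le_total (-1 - a - b) b with h | h
      · exact nine_aux h b1 hb hc (by linarith)
      · exact nine_aux h c1 hc hb (by linarith)
    · linarith [two_pos_aux a1 c1]
  · linarith [two_pos_aux a1 b1]

end Cfsg.Agent.SmallCent
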