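import Cfsg.Agent.SmallCent.Arith
import Cfsg.Agent.SmallCent.Local
import Cfsg.Agent.Classical.SmallSimple

/-!
# The signed degrees of the principal 2-block
-/

set_option autoImplicit false

namespace Cfsg.Agent.SmallCent

open DihedralGroup Cfsg.Agent Cfsg.Agent.Invol Cfsg.Agent.BlockThms.Dihedral Subgroup
open scoped ComplexConjugate

universe u

variable {G : Type u} [Group G]

/-- A non-trivial irreducible character of a non-abelian simple group is not linear. -/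
theorem degree_ne_one [Finite G] [IsSimpleGroup G] (hab : ∃ a b : G, a * b ≠ b * a)
    {χ : Cfsg.IrrCharacter G} (hne : χ ≠ Blocks.triv G) : (χ : G → ℂ) 1 ≠ 1 := by
  intro h1
  have hm := CharArith.linear_mul (Char.IsIrr.isCharacter χ.2) h1
  let f : G →* ℂˣ := MonoidHom.toHomUnits { toFun := (χ : G → ℂ), map_one' := h1, map_mul' := hm }
  have hf := Classical.Small.injective_of_ne hab f
  refine hne (Subtype.ext (funext fun g => ?_))
  exact congrArg Units.val (DFunLike.congr_fun hf g)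

namespace Cfg

variable [Fintype G] {S : Sylow 2 G} {ι : DihedralGroup (2 ^ 2) →* G} (c : Cfg S ι)
include c

theorem isConj_z_sr (a : ZMod (2 ^ 2)) : IsConj (ι (r (dh 2))) (ι (sr a)) :=
  c.fused _ _ c.data.z_order (c.data.sr_order a)

open scoped _root_.Classical in
/-- Exactly four pairs of conjugates of the central involution have product the rotation. -/
theorem card_pairs : (Finset.univ.filter fun s : G => IsConj (ι (r (dh 2))) s ∧
    IsConj (ι (r (dh 2))) (s⁻¹ * ι (r 1))).card = 4 := by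
  have hset : (Finset.univ.filter fun s : G => IsConj (ι (r (dh 2))) s ∧
      IsConj (ι (r (dh 2))) (s⁻¹ * ι (r 1))) =
      Finset.univ.image fun a : ZMod (2 ^ 2) => ι (sr a) := by
    ext s
    simp only [Finset.mem_filter, Finset.mem_univ, true_and, Finset.mem_image]
    constructor
    · rintro ⟨hs, ht⟩
      have hsq : ∀ x : G, IsConj (ι (r (dh 2))) x → x * x = 1 := by
        intro x hx
        obtain ⟨g, rfl⟩ := isConj_iff.1 hx
        calc g * ι (r (dh 2)) * g⁻¹ * (g * ι (r (dh 2)) * g⁻¹)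
            = g * (ι (r (dh 2)) * ι (r (dh 2))) * g⁻¹ := by group
          _ = 1 := by
            rw [← map_mul, r_mul_r, ← two_mul, two_dh c.data.pos, ← one_def, map_one, mul_one,
              mul_inv_cancel]
      have hinv : s⁻¹ = s := inv_eq_of_mul_eq_one_right (hsq s hs)
      have h2 := hsq _ ht
      rw [hinv] at h2
      have h3 : s * ι (r 1) * s = (ι (r 1))⁻¹ := by
        rw [eq_inv_iff_mul_eq_one]
        simpa [mul_assoc] using h2
      obtain ⟨i, hi⟩ := c.mem_centralizer_rot (x := ι (sr 0) * s) (by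
        have h4 : ι (sr 0) * (ι (r 1))⁻¹ * ι (sr 0) = ι (r 1) := by
          rw [← map_inv, ← map_mul, ← map_mul]
          exact congrArg ι (by decide)
        calc ι (sr 0) * s * ι (r 1) = ι (sr 0) * (s * ι (r 1) * s) * s := by
              rw [mul_assoc (ι (sr 0)), mul_assoc (ι (sr 0)), mul_assoc (s * ι (r 1)), hsq s hs,
                mul_one]
          _ = ι (sr 0) * (ι (r 1))⁻¹ * (ι (sr 0) * ι (sr 0)) * s := by
              rw [h3, ← map_mul ι (sr 0), sr_mul_self, map_one, mul_one]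
          _ = (ι (sr 0) * (ι (r 1))⁻¹ * ι (sr 0)) * (ι (sr 0) * s) := by simp only [mul_assoc]
          _ = ι (r 1) * (ι (sr 0) * s) := by rw [h4])
      refine ⟨i, ?_⟩
      rw [show s = ι (sr 0) * ι (r i) by
        rw [← hi, ← mul_assoc, ← map_mul, sr_mul_self, map_one, one_mul], ← map_mul, sr_mul_r,
        zero_add]
    · rintro ⟨a, rfl⟩
      refine ⟨c.isConj_z_sr a, ?_⟩
      rw [← map_inv, ← map_mul, inv_sr, sr_mul_r]
      exact c.isConj_z_sr _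
  rw [hset, Finset.card_image_of_injective _ fun a b h => sr.inj (c.data.inj h)]
  simp

open scoped _root_.Classical in
/-- The class multiplication sum at the rotation of order four. -/
theorem sum_mult : (Nat.card G : ℂ) * ∑ χ : Cfsg.IrrCharacter G,
    (χ : G → ℂ) (ι (r (dh 2))) ^ 2 * conj ((χ : G → ℂ) (ι (r 1))) / (χ : G → ℂ) 1 =
      (Nat.card (cJ ι) : ℂ) ^ 2 * 4 := by
  set z := ι (r (dh 2)) with hz
  set w := ι (r 1) with hw
  let ind : G → ℂ := fun x => if x = w then 1 else 0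
  have hval : ∀ y : G, ∑ χ : Cfsg.IrrCharacter G, (χ : G → ℂ) y * conj ((χ : G → ℂ) w) =
      ∑ b : G, ind (b * y * b⁻¹) := by
    intro y
    rw [Char.second_orthogonality, sum_conj_eq y ind, nsmul_eq_mul]
    simp only [ind, Finset.sum_ite_eq', Finset.mem_filter, Finset.mem_univ, true_and, mul_ite,
      mul_one, mul_zero]
    split_ifs <;> rfl
  have step : ∀ χ : Cfsg.IrrCharacter G, (Nat.card G : ℂ) *
      ((χ : G → ℂ) z ^ 2 * conj ((χ : G → ℂ) w) / (χ : G → ℂ) 1) =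
      ∑ a : G, (χ : G → ℂ) (a * z * a⁻¹ * z) * conj ((χ : G → ℂ) w) := by
    intro χ
    have h' := CharArith.classMult χ.2 z z
    have h1 := Char.IsIrr.one_ne_zero χ.2
    rw [← Finset.sum_mul]
    field_simp
    linear_combination -(conj ((χ : G → ℂ) w)) * h'
  rw [Finset.mul_sum, Finset.sum_congr rfl fun χ _ => step χ, Finset.sum_comm,
    Finset.sum_congr rfl fun a _ => hval _, Finset.sum_comm]
  have hsub : ∀ b : G, ∑ a : G, ind (b * (a * z * a⁻¹ * z) * b⁻¹) =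
      ∑ a : G, ind (a * z * a⁻¹ * (b * z * b⁻¹)) := by
    intro b
    refine Fintype.sum_equiv (Equiv.mulLeft b) _ _ fun a => ?_
    rw [Equiv.coe_mulLeft]
    congr 1
    group
  have hpair : ∀ φ : G → ℂ, ∑ b : G, φ (b * z * b⁻¹) = (Nat.card (cJ ι) : ℂ) *
      ∑ s ∈ Finset.univ.filter (fun s => IsConj z s), φ s := fun φ => by
    rw [sum_conj_eq, nsmul_eq_mul]
  rw [Finset.sum_congr rfl fun b _ => hsub b,
    hpair fun t => ∑ a : G, ind (a * z * a⁻¹ * t),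
    Finset.sum_congr rfl fun t _ => hpair fun s => ind (s * t), ← Finset.mul_sum, Finset.sum_comm]
  have hin : ∀ s : G, ∑ t ∈ Finset.univ.filter (fun t => IsConj z t), ind (s * t) =
      if IsConj z (s⁻¹ * w) then 1 else 0 := by
    intro s
    simp only [ind, ← eq_inv_mul_iff_mul_eq, Finset.sum_ite_eq', Finset.mem_filter,
      Finset.mem_univ, true_and]
  rw [Finset.sum_congr rfl fun s _ => hin s, Finset.sum_boole, Finset.filter_filter,
    hz, hw, c.card_pairs]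
  push_cast
  ring

theorem four_dvd {χ : G → ℂ} (hχ : Cfsg.IsCharacter G χ) :
    ∃ q : ℕ, χ 1 + χ (ι (r 1)) + χ (ι (r 2)) + χ (ι (r 3)) = 4 * q := by
  let rot : Multiplicative (ZMod (2 ^ 2)) →* DihedralGroup (2 ^ 2) :=
    MonoidHom.mk' (fun i => r i.toAdd) (fun i j => (r_mul_r i.toAdd j.toAdd).symm)
  have : Fintype (Multiplicative (ZMod (2 ^ 2))) := inferInstance
  obtain ⟨q, hq⟩ := Char.classInner_isCharacter_eq_natCast
    (Char.isCharacter_comp (ι.comp rot) hχ) (Char.isCharacter_one (G := Multiplicative (ZMod (2 ^ 2))))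
  refine ⟨q, ?_⟩
  rw [Cfsg.classInner] at hq
  have hcard : Nat.card (Multiplicative (ZMod (2 ^ 2))) = 4 := (Nat.card_congr Multiplicative.toAdd).trans (Nat.card_zmod 4)
  simp only [map_one, mul_one, hcard] at hq
  rw [← (Multiplicative.ofAdd (α := ZMod (2 ^ 2))).sum_comp,
    show (Finset.univ : Finset (ZMod (2 ^ 2))) = {0, 1, 2, 3} from by decide,
    Finset.sum_insert (by decide), Finset.sum_insert (by decide), Finset.sum_insert (by decide),
    Finset.sum_singleton, inv_mul_eq_iff_eq_mul₀ (by norm_num)] at hq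
  have e1 : ι (r 0) = 1 := by rw [← one_def, map_one]
  norm_num [rot] at hq
  rw [← hq]
  ring

variable [IsSimpleGroup G]

open scoped _root_.Classical in
theorem exists_degrees (hab : ∃ a b : G, a * b ≠ b * a) :
    ∃ (n : ℕ) (A B C : ℤ), Nat.card G = 8 * Nat.card (oker ι) * n ∧
      DegreeData (Nat.card (oker ι)) (Nat.card (fixpt ι 0) + Nat.card (fixpt ι 1)) n A B C ∧
      (B = -5 → ∃ χ : Cfsg.IrrCharacter G, (χ : G → ℂ) 1 = 5 ∧
        ∀ t x : G, orderOf t = 2 → Odd (orderOf x) → t * x = x * t →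
          (χ : G → ℂ) (t * x) = 1) := by
  obtain ⟨n, hnodd, hn⟩ := c.exists_group_order
  obtain ⟨π, h⟩ := exists_proj c.data
  obtain ⟨M, hM⟩ := Blocks.exists_isPModular 2 Nat.prime_two
  have hζ := Complex.isPrimitiveRoot_exp (2 ^ 2) (pow_ne_zero 2 two_ne_zero)
  set e := AddChar.zmodChar (2 ^ 2) hζ.pow_eq_one
  have he : e.IsPrimitive := AddChar.zmodChar_primitive_of_primitive_root _ hζ
  obtain ⟨χ₁, χ₂, χ₃, η, δ₁, δ₂, δ₃, L⟩ := exists_labels h c.data le_rfl he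
  have he2 : e 2 = -1 := by
    have hne : e 2 ≠ 1 := fun h' =>
      absurd ((AddChar.IsPrimitive.zmod_char_eq_one_iff _ he _).1 h') (by decide)
    have hsq : e 2 * e 2 = 1 := by
      rw [← AddChar.map_add_eq_mul, show (2 : ZMod (2 ^ 2)) + 2 = 0 from rfl,
        AddChar.map_zero_eq_one]
    exact (mul_self_eq_one_iff.1 hsq).resolve_left hne
  have hdh : (dh 2 : ZMod (2 ^ 2)) = 2 := by decide
  have hs1 : (1 : ZMod (2 ^ 2)) ≠ 0 := by decide
  have hs2 : (2 : ZMod (2 ^ 2)) ≠ 0 := by decide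
  have hs3 : (3 : ZMod (2 ^ 2)) ≠ 0 := by decide
  have v1 : ∀ s : ZMod (2 ^ 2), s ≠ 0 → (χ₁ : G → ℂ) (ι (r s)) = δ₁ := fun s hs =>
    L.value₁ h c.data hM he hs
  have v23 : ∀ s : ZMod (2 ^ 2), s ≠ 0 → (χ₂ : G → ℂ) (ι (r s)) = -(δ₂ * e (2 * s)) ∧
      (χ₃ : G → ℂ) (ι (r s)) = -(δ₃ * e (2 * s)) := fun s hs => by
    have := L.value₂₃ h c.data hM he hs
    rwa [hdh] at this
  have e20 : e (2 * 2) = 1 := by
    rw [show (2 : ZMod (2 ^ 2)) * 2 = 0 from rfl, AddChar.map_zero_eq_one]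
  have e23 : e (2 * 3) = -1 := by rw [show (2 : ZMod (2 ^ 2)) * 3 = 2 from rfl, he2]
  obtain ⟨w2, w3⟩ : (χ₂ : G → ℂ) (ι (r 1)) = δ₂ ∧ (χ₃ : G → ℂ) (ι (r 1)) = δ₃ := by
    obtain ⟨a, b⟩ := v23 1 hs1
    rw [mul_one, he2] at a b
    exact ⟨by rw [a]; ring, by rw [b]; ring⟩
  obtain ⟨z2, z3⟩ : (χ₂ : G → ℂ) (ι (r 2)) = -δ₂ ∧ (χ₃ : G → ℂ) (ι (r 2)) = -δ₃ := by
    obtain ⟨a, b⟩ := v23 2 hs2
    rw [e20, mul_one] at a b
    exact ⟨a, b⟩
  obtain ⟨u2, u3⟩ : (χ₂ : G → ℂ) (ι (r 3)) = δ₂ ∧ (χ₃ : G → ℂ) (ι (r 3)) = δ₃ := by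
    obtain ⟨a, b⟩ := v23 3 hs3
    rw [e23] at a b
    exact ⟨by rw [a]; ring, by rw [b]; ring⟩
  -- degrees
  obtain ⟨x₁, x1pos, hx1⟩ := Char.IsIrr.degree χ₁.2
  obtain ⟨x₂, x2pos, hx2⟩ := Char.IsIrr.degree χ₂.2
  obtain ⟨x₃, x3pos, hx3⟩ := Char.IsIrr.degree χ₃.2
  have hne : ∀ (χ : Cfsg.IrrCharacter G) (x : ℕ), χ ≠ Blocks.triv G → (χ : G → ℂ) 1 = x → x ≠ 1 :=
    fun χ x hχ hx e' => degree_ne_one hab hχ (by rw [hx, e', Nat.cast_one])
  have n1 := hne _ _ L.ne_one₁ hx1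
  have n2 := hne _ _ L.ne_one₂ hx2
  have n3 := hne _ _ L.ne_one₃ hx3
  have hrel : 1 + δ₁ * (x₁ : ℤ) + δ₂ * x₂ + δ₃ * x₃ = 0 := by
    have h1 := (L.odd_relations h c.data he (g := (1 : G)) (by simp)).1
    rw [hx1, hx2, hx3] at h1
    have h2 : ((1 + δ₁ * (x₁ : ℤ) + δ₂ * x₂ + δ₃ * x₃ : ℤ) : ℂ) = ((0 : ℤ) : ℂ) := by
      push_cast; linear_combination h1
    exact_mod_cast h2
  have hm1 : ∃ q : ℤ, (x₁ : ℤ) + 3 * δ₁ = 4 * q := by
    obtain ⟨q, hq⟩ := c.four_dvd (Char.IsIrr.isCharacter χ₁.2)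
    rw [hx1, v1 1 hs1, v1 2 hs2, v1 3 hs3] at hq
    refine ⟨q, ?_⟩
    have : (((x₁ : ℤ) + 3 * δ₁ : ℤ) : ℂ) = ((4 * (q : ℤ) : ℤ) : ℂ) := by
      push_cast; linear_combination hq
    exact_mod_cast this
  have hm2 : ∃ q : ℤ, (x₂ : ℤ) + δ₂ = 4 * q := by
    obtain ⟨q, hq⟩ := c.four_dvd (Char.IsIrr.isCharacter χ₂.2)
    rw [hx2, w2, z2, u2] at hq
    refine ⟨q, ?_⟩
    have : (((x₂ : ℤ) + δ₂ : ℤ) : ℂ) = ((4 * (q : ℤ) : ℤ) : ℂ) := by
      push_cast; linear_combination hq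
    exact_mod_cast this
  have hm3 : ∃ q : ℤ, (x₃ : ℤ) + δ₃ = 4 * q := by
    obtain ⟨q, hq⟩ := c.four_dvd (Char.IsIrr.isCharacter χ₃.2)
    rw [hx3, w3, z3, u3] at hq
    refine ⟨q, ?_⟩
    have : (((x₃ : ℤ) + δ₃ : ℤ) : ℂ) = ((4 * (q : ℤ) : ℤ) : ℂ) := by
      push_cast; linear_combination hq
    exact_mod_cast this
  obtain ⟨q1, hq1⟩ := hm1
  obtain ⟨q2, hq2⟩ := hm2
  obtain ⟨q3, hq3⟩ := hm3
  set A : ℤ := δ₁ * x₁ with hA
  set B : ℤ := δ₂ * x₂ with hB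
  set C : ℤ := δ₃ * x₃ with hC
  have facts : (A % 4 = 1 ∧ A ≠ 1) ∧ (B % 4 = 3 ∧ B ≠ -1) ∧ (C % 4 = 3 ∧ C ≠ -1) := by
    refine ⟨?_, ?_, ?_⟩
    · rcases L.sign₁ with s | s <;> rw [hA, s] <;> subst s <;> omega
    · rcases L.sign₂ with s | s <;> rw [hB, s] <;> subst s <;> omega
    · rcases L.sign₃ with s | s <;> rw [hC, s] <;> subst s <;> omega
  obtain ⟨⟨mA, nA⟩, ⟨mB, nB⟩, ⟨mC, nC⟩⟩ := facts
  -- the other characters vanish at the rotation
  set four : Finset (Cfsg.IrrCharacter G) := {Blocks.triv G, χ₁, χ₂, χ₃} with hfour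
  have hsum4 : ∀ F : Cfsg.IrrCharacter G → ℂ, ∑ χ ∈ four, F χ =
      F (Blocks.triv G) + F χ₁ + F χ₂ + F χ₃ := by
    intro F
    rw [hfour, Finset.sum_insert (by simp [L.ne_one₁.symm, L.ne_one₂.symm, L.ne_one₃.symm]),
      Finset.sum_insert (by simp [L.ne₁₂, L.ne₁₃]), Finset.sum_pair L.ne₂₃]
    ring
  have ht : ∀ x : G, (Blocks.triv G : G → ℂ) x = 1 := fun _ => rfl
  have hsq : ∀ d : ℤ, d = 1 ∨ d = -1 → (d : ℂ) * conj (d : ℂ) = 1 := by
    rintro d (rfl | rfl) <;> simp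
  have hvan : ∀ χ, χ ∉ four → (χ : G → ℂ) (ι (r 1)) = 0 := by
    intro χ hχ
    have h1 := Char.second_orthogonality (ι (r 1)) (ι (r 1))
    rw [if_pos (IsConj.refl _), c.selfcent,
      ← Finset.sum_compl_add_sum four, hsum4, ht, v1 1 hs1, w2, w3, hsq _ L.sign₁,
      hsq _ L.sign₂, hsq _ L.sign₃] at h1
    simp only [map_one, mul_one, Complex.mul_conj] at h1
    have h2 : ∑ x ∈ fourᶜ, Complex.normSq ((x : G → ℂ) (ι (r 1))) = 0 := by
      have : ((∑ x ∈ fourᶜ, Complex.normSq ((x : G → ℂ) (ι (r 1))) : ℝ) : ℂ) = ((0 : ℝ) : ℂ) := by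
        push_cast
        linear_combination h1
      exact_mod_cast this
    exact Complex.normSq_eq_zero.1 ((Finset.sum_eq_zero_iff_of_nonneg
      fun x _ => Complex.normSq_nonneg _).1 h2 χ (Finset.mem_compl.2 hχ))
  have hAne : (A : ℂ) ≠ 0 := Int.cast_ne_zero.2 (by omega)
  have hBne : (B : ℂ) ≠ 0 := Int.cast_ne_zero.2 (by omega)
  have hCne : (C : ℂ) ≠ 0 := Int.cast_ne_zero.2 (by omega)
  have hI : (n : ℤ) * (A + 1) * (B * C - A) = 32 * (Nat.card (oker ι) : ℤ) * A * (B * C) := by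
    have h1 := c.sum_mult
    rw [← Finset.sum_subset (Finset.subset_univ four) fun χ _ hχ => by
      rw [hvan χ hχ, map_zero, mul_zero, zero_div]] at h1
    rw [hsum4, ht, ht, ht, hdh, v1 1 hs1, v1 2 hs2, w2, w3, z2, z3, hx1, hx2, hx3, c.card_cJ] at h1
    have p1 : (x₁ : ℂ) ≠ 0 := Nat.cast_ne_zero.2 x1pos.ne'
    have p2 : (x₂ : ℂ) ≠ 0 := Nat.cast_ne_zero.2 x2pos.ne'
    have p3 : (x₃ : ℂ) ≠ 0 := Nat.cast_ne_zero.2 x3pos.ne'
    have hdiv : ∀ (d : ℤ) (x : ℕ) (v : ℂ), d = 1 ∨ d = -1 → v ^ 2 = 1 → (x : ℂ) ≠ 0 →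
        v ^ 2 * conj (d : ℂ) / (x : ℂ) = 1 / ((d * (x : ℤ) : ℤ) : ℂ) := by
      rintro d x v (rfl | rfl) hv hx <;> rw [hv] <;> simp [div_neg, neg_div]
    have sq1 : ∀ d : ℤ, d = 1 ∨ d = -1 → (d : ℂ) ^ 2 = 1 ∧ (-(d : ℂ)) ^ 2 = 1 := by
      rintro d (rfl | rfl) <;> norm_num
    rw [hdiv _ _ _ L.sign₁ (sq1 _ L.sign₁).1 p1, hdiv _ _ _ L.sign₂ (sq1 _ L.sign₂).2 p2,
      hdiv _ _ _ L.sign₃ (sq1 _ L.sign₃).2 p3, ← hA, ← hB, ← hC, hn, map_one, one_pow, mul_one,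
      div_one] at h1
    push_cast at h1
    field_simp at h1
    have hk0 : (Nat.card (oker ι) : ℤ) ≠ 0 := Nat.cast_ne_zero.2 Nat.card_pos.ne'
    refine mul_left_cancel₀ (mul_ne_zero (show (8 : ℤ) ≠ 0 by norm_num) hk0) ?_
    apply Int.cast_injective (α := ℂ)
    have hr : (1 : ℂ) + A + B + C = 0 := by exact_mod_cast hrel
    push_cast
    linear_combination 8 * (Nat.card (oker ι) : ℂ) * h1 - 8 * (Nat.card (oker ι) : ℂ) * n * (A : ℂ) * hr
  -- the order formula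
  have hII : (n : ℤ) * (A - 1) ^ 2 = 8 * A * (A + 1) *
      ((Nat.card (fixpt ι 0) : ℤ) + Nat.card (fixpt ι 1)) ^ 2 := by
    obtain ⟨-, key⟩ := h.order_formula c.data he le_rfl hM c.isConj_z_sr (L.mem₁ h c.data hM)
      (fun e' => L.ne_one₁ (Subtype.ext e')) δ₁ L.sign₁
      (fun l hl0 hl => v1 _ fun h0 => by
        have := natCast_eq_imp hl (by norm_num) (h0.trans Nat.cast_zero.symm)
        omega)
    obtain ⟨a, b, hab', ha, hb⟩ := h.card_refl c.data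
    rw [c.card_joint, c.card_cJ, c.card_oker 0, zero_add] at ha
    rw [c.card_joint, c.card_cJ, c.card_oker 0, zero_add,
      show (-1 : ZMod (2 ^ 2)) = 1 + 2 from by decide, c.fixpt_add_two] at hb
    have ha' : a = 2 * Nat.card (fixpt ι 1) := by
      have : 0 < Nat.card (fixpt ι 0) := Nat.card_pos
      refine Nat.eq_of_mul_eq_mul_right (show 0 < 4 * Nat.card (fixpt ι 0) by omega) ?_
      rw [ha]; ring
    have hb' : b = 2 * Nat.card (fixpt ι 0) := by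
      have : 0 < Nat.card (fixpt ι 1) := Nat.card_pos
      refine Nat.eq_of_mul_eq_mul_right (show 0 < 4 * Nat.card (fixpt ι 1) by omega) ?_
      rw [hb]; ring
    rw [hab', ha', hb', c.card_cJ, hn, Blocks.charDegree_eq hx1] at key
    have hk0 : (Nat.card (oker ι) : ℤ) ≠ 0 := Nat.cast_ne_zero.2 Nat.card_pos.ne'
    refine mul_left_cancel₀ (mul_ne_zero (show (8 : ℤ) ≠ 0 by norm_num) hk0) ?_
    apply Int.cast_injective (α := ℂ)
    push_cast at key ⊢
    rcases L.sign₁ with s | s <;> rw [hA, s] <;> rw [s] at key <;> push_cast at key ⊢ <;>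
      linear_combination key
  refine ⟨n, A, B, C, hn, ⟨hrel, mA, mB, mC, nA, nB, nC, by exact_mod_cast Nat.card_pos,
    by exact_mod_cast hnodd.pos, by exact_mod_cast hnodd, ?_, ?_, hI, hII⟩, fun hB5 => ⟨χ₂, ?_, ?_⟩⟩
  · have hk := c.card_oker_odd
    rw [c.card_oker 0, zero_add, Nat.odd_mul] at hk
    exact_mod_cast hk.1.add_odd hk.2
  · rw [c.card_oker 0, zero_add]
    push_cast
    nlinarith [sq_nonneg ((Nat.card (fixpt ι 0) : ℤ) - Nat.card (fixpt ι 1))]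
  · rcases L.sign₂ with s | s <;> rw [hB, s] at hB5
    · omega
    · rw [hx2, show x₂ = 5 by omega]; norm_num
  · intro t x ht hx hcomm
    have hd : δ₂ = -1 := by
      rcases L.sign₂ with s | s <;> rw [hB, s] at hB5
      · omega
      · exact s
    obtain ⟨g, hg⟩ := isConj_iff.1 (c.fused (ι (r (dh 2))) t c.data.z_order ht)
    have hx0 : g⁻¹ * x * g ∈ cJ ι := mem_centralizer_singleton_iff.2
      (calc g⁻¹ * x * g * ι (r (dh 2)) = g⁻¹ * (x * (g * ι (r (dh 2)) * g⁻¹)) * g := by group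
        _ = g⁻¹ * ((g * ι (r (dh 2)) * g⁻¹) * x) * g := by rw [hg, hcomm]
        _ = ι (r (dh 2)) * (g⁻¹ * x * g) := by group)
    have ho : Odd (orderOf (g⁻¹ * x * g)) := by
      have := MulEquiv.orderOf_eq (MulAut.conj g⁻¹) x
      rw [MulAut.conj_apply, inv_inv] at this
      rwa [this]
    obtain ⟨hm, hπ⟩ := (c.mem_oker h).1 (c.mem_oker_of_odd hx0 ho)
    have hK : ¬ 2 ∣ Nat.card π.ker := by
      rw [c.card_ker h]
      exact c.card_oker_odd.not_two_dvd_nat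
    have hsec := section_constant (u := ι (r (dh 2))) hM ⟨1, by rw [c.data.z_order, pow_one]⟩ π.ker hK
      (χ := χ₂) (L.mem₂ h c.data hM) (v := ⟨g⁻¹ * x * g, hm⟩) hπ
    rw [show t * x = g * (ι (r (dh 2)) * (g⁻¹ * x * g)) * g⁻¹ by rw [← hg]; group,
      Char.isClassFunction_of_isIrr χ₂.2, hsec, hdh, z2, hd]
    norm_num

end Cfg

end Cfsg.Agent.SmallCent
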